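import Groth.Agent.NormDescLib.Image

/-!
# Ampleness descends along finite covers of reduced schemes, normal or free at each point
-/

set_option autoImplicit false
universe u

open CategoryTheory CategoryTheory.Limits AlgebraicGeometry TopologicalSpace Opposite
open KFlatLib (pb)

noncomputable section

namespace NormDescLib

variable {X' X Y : Scheme.{u}} (g : X' ⟶ X)

theorem hasBasis_of_restrict (T : X.Opens)
    (h : FlatMod.IsFinLocFree (((Coh.push g).obj (Coh.structureModule X')).restrict T.ι)) {x : X} (hx : x ∈ T) :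
    ∃ (D : X.Opens) (n : ℕ), IsAffineOpen D ∧ x ∈ D ∧ HasBasis (g.app D).hom n := by
  let E := ((Coh.push g).obj (Coh.structureModule X')).restrict T.ι
  haveI : Coh.IsQCoh E := FinLFAnn.isQCoh_of_isFinLocFree h
  obtain ⟨U, n, e, hxU, he⟩ := ProjFormLib.exists_frame h (⟨x, hx⟩ : T)
  obtain ⟨W, hW, hxW, hWU⟩ := exists_isAffineOpen_mem_and_subset (x := (⟨x, hx⟩ : T)) (U := U) hxU
  have hb := DetDegLib.frame_bijective hW (fun i => ProjFormLib.res E hWU (e i)) fun z hz => he.res hWU z hz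
  refine ⟨T.ι ''ᵁ W, n, hW.image_of_isOpenImmersion T.ι, ⟨⟨x, hx⟩, hxW, rfl⟩, ?_⟩
  letI := (g.app (T.ι ''ᵁ W)).hom.toAlgebra
  let es : Fin n → Γ(X', g ⁻¹ᵁ (T.ι ''ᵁ W)) := fun i => ProjFormLib.res E hWU (e i)
  let L : (Fin n → Γ(X, T.ι ''ᵁ W)) →ₗ[Γ(X, T.ι ''ᵁ W)] Γ(X', g ⁻¹ᵁ (T.ι ''ᵁ W)) :=
    Fintype.linearCombination Γ(X, T.ι ''ᵁ W) es
  have hsm : ∀ (r : Γ(X, T.ι ''ᵁ W)) (a : Γ(X', g ⁻¹ᵁ (T.ι ''ᵁ W))),
      g.app (T.ι ''ᵁ W) r * a = ((show Γ(T, W) from r) • (show Γ(E, W) from a) : Γ(E, W)) := fun r a => by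
    change g.app (T.ι ''ᵁ W) r * a = g.app (T.ι ''ᵁ W) ((T.ι.appIso W).inv r) * a
    rw [Scheme.Opens.ι_appIso]
    rfl
  have hL : Function.Bijective L := by
    refine (?_ : (L : _ → _) = _) ▸ hb
    funext c
    exact (Fintype.linearCombination_apply Γ(X, T.ι ''ᵁ W) es c).trans (Finset.sum_congr rfl fun i _ => hsm (c i) (es i))
  exact ⟨Module.Basis.ofEquivFun (LinearEquiv.ofBijective L hL).symm⟩

theorem isAmple_of_isAmple_pb_reduced [IsNoetherian X] [IsReduced X] [IsFinite g] [Surjective g]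
    (hW : ∀ x : X, (IsDomain (X.presheaf.stalk x) ∧ IsIntegrallyClosed (X.presheaf.stalk x)) ∨
      ∃ T : X.Opens, x ∈ T ∧ FlatMod.IsFinLocFree (((Coh.push g).obj (Coh.structureModule X')).restrict T.ι))
    {L : X.Modules} (hL : PicF.IsInvertible L) (hA : CohB1.IsAmple (pb g L)) : CohB1.IsAmple L := by
  obtain ⟨R, hR, hd⟩ := exists_denseFree g
  obtain ⟨N⟩ := exists_part_hasNorm hR hd fun x => (hW x).imp id fun ⟨T, hxT, hT⟩ => hasBasis_of_restrict g T hT hxT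
  have h1 := AmpleDevLib.isAmple_pb (freeImageι g R) hA.1 hA
  exact isAmple_of_isAmple_pb N hL (AmpleDevLib.isAmple_of_iso h1.1 (AmpleDevLib.isInvertible_pb _ hL)
    ((Scheme.Modules.pullbackComp (freeImageι g R) g).app L) h1)

theorem relAmple_iff_pb_reduced [IsAffine Y] [IsNoetherian X] [IsReduced X] (f : X ⟶ Y) [QuasiCompact f]
    [IsFinite g] [Surjective g]
    (hW : ∀ x : X, (IsDomain (X.presheaf.stalk x) ∧ IsIntegrallyClosed (X.presheaf.stalk x)) ∨
      ∃ T : X.Opens, x ∈ T ∧ FlatMod.IsFinLocFree (((Coh.push g).obj (Coh.structureModule X')).restrict T.ι))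
    {L : X.Modules} (hL : PicF.IsInvertible L) :
    RelAmple.IsRelAmple f L ↔ RelAmple.IsRelAmple (g ≫ f) (pb g L) :=
  ⟨fun h => relAmple_pb g f h, fun h => (MiscFlat6.isRelAmple_iff_isAmple f L).mpr
    (isAmple_of_isAmple_pb_reduced g hW hL ((MiscFlat6.isRelAmple_iff_isAmple (g ≫ f) _).mp h))⟩

end NormDescLib
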