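import Groth.Agent.NormDescLib.FreeRing
import Mathlib.RingTheory.Spectrum.Prime.FreeLocus
import Mathlib.RingTheory.Localization.Free

/-!
# Finitely presented flat algebras are free near each prime
-/

set_option autoImplicit false
universe u

noncomputable section

namespace NormDescLib

/-- Near each prime at which the localisation is free, a finitely presented algebra is free. -/
theorem exists_hasBasis_away_of_free {A B : Type u} [CommRing A] [CommRing B] [Algebra A B]
    [Module.FinitePresentation A B] (q : PrimeSpectrum A)
    [Module.Free (Localization.AtPrime q.asIdeal) (LocalizedModule q.asIdeal.primeCompl B)] :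
    ∃ r : A, r ∉ q.asIdeal ∧ ∀ (A' B' : Type u) (_ : CommRing A') (_ : CommRing B') (ρA : A →+* A') (ρB : B →+* B')
      (i' : A' →+* B'), i'.comp ρA = ρB.comp (algebraMap A B) →
      (letI := ρA.toAlgebra; IsLocalization.Away r A') →
      (letI := ρB.toAlgebra; IsLocalization.Away (algebraMap A B r) B') →
      HasBasis i' (Module.rankAtStalk B q) := by
  obtain ⟨r, hr, hfree, hrank⟩ := Module.FinitePresentation.exists_free_localizedModule_powers
    q.asIdeal.primeCompl (LocalizedModule.mkLinearMap q.asIdeal.primeCompl B) (Localization.AtPrime q.asIdeal)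
  refine ⟨r, hr, fun A' B' _ _ ρA ρB i' comm hA hB => ?_⟩
  haveI := hfree
  haveI : Nontrivial (Localization (Submonoid.powers r)) :=
    (show Localization (Submonoid.powers r) →+* Localization.AtPrime q.asIdeal from
      IsLocalization.map (M := Submonoid.powers r) (T := q.asIdeal.primeCompl) _ (RingHom.id A)
        (Submonoid.powers_le.mpr hr)).domain_nontrivial
  haveI : Module.Finite (Localization (Submonoid.powers r)) (LocalizedModule.Away r B) :=
    Module.Finite.of_isLocalizedModule (Submonoid.powers r) (Rₚ := Localization (Submonoid.powers r))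
      (LocalizedModule.mkLinearMap (Submonoid.powers r) B)
  letI := ρA.toAlgebra
  letI := ρB.toAlgebra
  letI := i'.toAlgebra
  letI : Algebra A B' := (ρB.comp (algebraMap A B)).toAlgebra
  haveI : IsScalarTower A B B' := IsScalarTower.of_algebraMap_eq fun _ => rfl
  haveI : IsScalarTower A A' B' := IsScalarTower.of_algebraMap_eq fun x => (RingHom.congr_fun comm x).symm
  haveI : IsLocalization (Submonoid.powers r) A' := hA
  haveI : IsLocalization (Algebra.algebraMapSubmonoid B (Submonoid.powers r)) B' := by
    rw [Algebra.algebraMapSubmonoid_powers]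
    exact hB
  let eA := IsLocalization.algEquiv (Submonoid.powers r) (Localization (Submonoid.powers r)) A'
  letI : Algebra (Localization (Submonoid.powers r)) B' := (i'.comp eA.toAlgHom.toRingHom).toAlgebra
  haveI : IsScalarTower A (Localization (Submonoid.powers r)) B' := IsScalarTower.of_algebraMap_eq fun x => by
    rw [RingHom.algebraMap_toAlgebra]
    change _ = i' (eA (algebraMap A _ x))
    rw [eA.commutes]
    exact IsScalarTower.algebraMap_apply A A' B' x
  haveI : IsLocalizedModule (Submonoid.powers r) (IsScalarTower.toAlgHom A B B').toLinearMap :=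
    isLocalizedModule_iff_isLocalization.mpr ‹_›
  let e : LocalizedModule.Away r B ≃ₗ[Localization (Submonoid.powers r)] B' :=
    (IsLocalizedModule.iso (Submonoid.powers r)
      (IsScalarTower.toAlgHom A B B').toLinearMap).extendScalarsOfIsLocalization (Submonoid.powers r) _
  obtain ⟨v⟩ : Nonempty (Module.Basis (Fin (Module.rankAtStalk B q)) (Localization (Submonoid.powers r)) B') :=
    ⟨((Module.Free.chooseBasis _ (LocalizedModule.Away r B)).reindex
      (Fintype.equivFinOfCardEq (by rw [← Module.finrank_eq_card_chooseBasisIndex, hrank]; rfl))).map e⟩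
  exact ⟨v.mapCoeffs eA.toRingEquiv fun c x => by
    rw [Algebra.smul_def, Algebra.smul_def]
    rfl⟩

/-- Near each prime a finitely presented flat algebra is free of rank the rank at that prime. -/
theorem exists_hasBasis_away {A B : Type u} [CommRing A] [CommRing B] [Algebra A B]
    [Module.FinitePresentation A B] [Module.Flat A B] (q : PrimeSpectrum A) :
    ∃ r : A, r ∉ q.asIdeal ∧ ∀ (A' B' : Type u) (_ : CommRing A') (_ : CommRing B') (ρA : A →+* A') (ρB : B →+* B')
      (i' : A' →+* B'), i'.comp ρA = ρB.comp (algebraMap A B) →
      (letI := ρA.toAlgebra; IsLocalization.Away r A') →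
      (letI := ρB.toAlgebra; IsLocalization.Away (algebraMap A B r) B') →
      HasBasis i' (Module.rankAtStalk B q) :=
  haveI : Module.Free (Localization.AtPrime q.asIdeal) (LocalizedModule q.asIdeal.primeCompl B) :=
    Module.free_of_flat_of_isLocalRing
  exists_hasBasis_away_of_free q

end NormDescLib
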