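import Groth.Agent.NormDescLib.Free
import Groth.Agent.NormDescLib.FreeLocal
import Mathlib.AlgebraicGeometry.Morphisms.FlatRank
import Mathlib.AlgebraicGeometry.Morphisms.FinitePresentation

/-!
# Norms of finite flat finitely presented morphisms of constant rank
-/

set_option autoImplicit false
universe u

open CategoryTheory CategoryTheory.Limits AlgebraicGeometry TopologicalSpace Opposite

noncomputable section

namespace NormDescLib

variable {X Y : Scheme.{u}} (π : X ⟶ Y)

/-- Near each point, the algebra of functions of a finite flat finitely presented morphism is free of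
rank the rank at the point. -/
theorem exists_hasBasis [IsFinite π] [Flat π] [LocallyOfFinitePresentation π] (y : Y) :
    ∃ D : Y.Opens, IsAffineOpen D ∧ y ∈ D ∧ HasBasis (π.app D).hom (π.finrank y) := by
  obtain ⟨U, hU, hyU, -⟩ := exists_isAffineOpen_mem_and_subset (x := y) (U := (⊤ : Y.Opens)) trivial
  have hV := hU.preimage π
  letI : Algebra Γ(Y, U) Γ(X, π ⁻¹ᵁ U) := (π.app U).hom.toAlgebra
  haveI : Module.Finite Γ(Y, U) Γ(X, π ⁻¹ᵁ U) := π.finite_app U hU
  haveI : Module.Flat Γ(Y, U) Γ(X, π ⁻¹ᵁ U) := by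
    have := π.flat_appLE hU hV le_rfl
    rw [π.appLE_eq_app] at this
    exact this
  haveI : Algebra.FinitePresentation Γ(Y, U) Γ(X, π ⁻¹ᵁ U) := by
    have := π.finitePresentation_appLE hU hV le_rfl
    rw [π.appLE_eq_app] at this
    exact this
  haveI : Module.FinitePresentation Γ(Y, U) Γ(X, π ⁻¹ᵁ U) := Module.FinitePresentation.of_finite_of_finitePresentation _ _
  let q := hU.primeIdealOf ⟨y, hyU⟩
  have hrank : π.finrank y = Module.rankAtStalk (R := Γ(Y, U)) Γ(X, π ⁻¹ᵁ U) q := by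
    haveI : IsIso hV.isoSpec.inv := inferInstance
    have h1 : IsPullback hV.isoSpec.inv (Spec.map (π.app U)) (π ∣_ U) hU.isoSpec.inv := by
      refine IsPullback.of_horiz_isIso ⟨?_⟩
      rw [← cancel_mono U.ι, Category.assoc, morphismRestrict_ι, Category.assoc, hU.isoSpec_inv_ι,
        ← Category.assoc, hV.isoSpec_inv_ι, ← IsAffineOpen.SpecMap_appLE_fromSpec π hU hV le_rfl,
        π.appLE_eq_app]
    have h2 := Scheme.Hom.finrank_of_isPullback _ _ π hU.fromSpec
      (h1.paste_horiz (isPullback_morphismRestrict π U).flip) q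
    rw [hU.fromSpec_primeIdealOf] at h2
    rw [← h2]
    exact Scheme.Hom.finrank_SpecMap_algebraMap Γ(Y, U) Γ(X, π ⁻¹ᵁ U) q
  obtain ⟨r, hr, hloc⟩ := exists_hasBasis_away (A := Γ(Y, U)) (B := Γ(X, π ⁻¹ᵁ U)) q
  refine ⟨Y.basicOpen r, hU.basicOpen r, ?_, ?_⟩
  · have hmem : q ∈ hU.fromSpec ⁻¹ᵁ Y.basicOpen r := by
      rw [hU.fromSpec_preimage_basicOpen]
      exact hr
    have := hU.fromSpec_primeIdealOf ⟨y, hyU⟩
    have h : hU.fromSpec q ∈ Y.basicOpen r := hmem
    rwa [this] at h
  · rw [hrank]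
    exact hloc _ _ _ _ (Y.presheaf.map (homOfLE (Y.basicOpen_le r)).op).hom
      (X.presheaf.map (homOfLE (π.preimage_mono (Y.basicOpen_le r))).op).hom _
      (RingHom.ext fun a => app_rs (Y.basicOpen_le r) a)
      (hU.isLocalization_of_eq_basicOpen r (homOfLE (Y.basicOpen_le r)) rfl)
      (hV.isLocalization_of_eq_basicOpen _ (homOfLE (π.preimage_mono (Y.basicOpen_le r)))
        (Scheme.preimage_basicOpen π r))

theorem hasNorm_of_finrank [IsFinite π] [Flat π] [LocallyOfFinitePresentation π] {d : ℕ} (hd : 1 ≤ d)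
    (h : ∀ y, π.finrank y = d) : Nrm.HasNorm π d :=
  hasNorm_of_freeOn π hd fun y => by
    obtain ⟨D, hD, hyD, hb⟩ := exists_hasBasis π y
    exact ⟨D, ⟨hD, d, hd, dvd_rfl, h y ▸ hb⟩, hyD⟩

end NormDescLib
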