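import Groth.Agent.DiscExtLib.Glue
import Groth.Agent.AmpleThLib.Locus

/-!
# Invertible modules with sections from multiplicative cocycles
-/

set_option autoImplicit false
universe u

open CategoryTheory CategoryTheory.Limits AlgebraicGeometry TopologicalSpace Opposite
open AmpleLib (res GenOn)
open TwistLib (genSet)
open DiscExtLib (triv cut cut_le cut_le_left cut_mono le_cut fn pi_sections)

noncomputable section

namespace NormDescLib

variable {Y : Scheme.{u}} {ι : Type u} (V : ι → Y.Opens)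

/-- The ambient module of tuples of functions. -/
abbrev tuples : Y.Modules := ∏ᶜ fun i => triv (V i)

/-- A component of a tuple. -/
abbrev tc (i : ι) {W : Y.Opens} (a : Γ(tuples V, W)) : Γ(Y, cut (V i) W) :=
  fn ((Pi.π (fun i => triv (V i)) i).app W a)

/-- Restriction of functions. -/
abbrev rY {U W : Y.Opens} (h : W ≤ U) (s : Γ(Y, U)) : Γ(Y, W) := Y.presheaf.map (homOfLE h).op s

theorem rY_rY {U W W' : Y.Opens} (h : W ≤ U) (h' : W' ≤ W) (s : Γ(Y, U)) :
    rY h' (rY h s) = rY (h'.trans h) s :=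
  AmpleLib.res_res (Coh.structureModule Y) h h' s

theorem rY_mul {U W : Y.Opens} (h : W ≤ U) (a b : Γ(Y, U)) : rY h (a * b) = rY h a * rY h b :=
  map_mul (Y.presheaf.map (homOfLE h).op).hom a b

theorem tc_res (i : ι) {W W' : Y.Opens} (h : W' ≤ W) (a : Γ(tuples V, W)) :
    tc V i (res (tuples V) h a) = rY (cut_mono (V i) h) (tc V i a) :=
  congrArg fn (QCohLib.app_map _ (homOfLE h) a)

theorem tc_smul (i : ι) {W : Y.Opens} (r : Γ(Y, W)) (a : Γ(tuples V, W)) :
    tc V i (r • a) = rY (cut_le (V i) W) r * tc V i a :=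
  congrArg fn (QCohLib.app_smul _ W r a)

theorem tc_sub (i : ι) {W : Y.Opens} (a b : Γ(tuples V, W)) : tc V i (a - b) = tc V i a - tc V i b :=
  map_sub ((Pi.π (fun i => triv (V i)) i).app W).hom a b

theorem tc_zero (i : ι) (W : Y.Opens) : tc V i (0 : Γ(tuples V, W)) = 0 :=
  map_zero ((Pi.π (fun i => triv (V i)) i).app W).hom

theorem exists_tuple {W : Y.Opens} (c : ∀ i, Γ(Y, cut (V i) W)) :
    ∃ a : Γ(tuples V, W), ∀ i, tc V i a = c i := by
  obtain ⟨a, ha⟩ := (pi_sections (fun i => triv (V i)) W).2 c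
  exact ⟨a, congrFun ha⟩

theorem tuple_ext {W : Y.Opens} {a b : Γ(tuples V, W)} (h : ∀ i, tc V i a = tc V i b) : a = b :=
  (pi_sections (fun i => triv (V i)) W).1 (funext h)

variable (C : ∀ _ j : ι, Γ(Y, V j))

/-- The tuples transforming by the cocycle. -/
def twisted : QCohLib.LocSub (tuples V) where
  mem W a := ∀ i j, rY (inf_le_right : cut (V i) W ⊓ cut (V j) W ≤ cut (V j) W) (tc V j a) =
    rY (inf_le_left : cut (V i) W ⊓ cut (V j) W ≤ cut (V i) W) (tc V i a) *
      rY (inf_le_right.trans (cut_le_left (V j) W)) (C i j)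
  zero W i j := by
    rw [tc_zero, tc_zero]
    simp [rY]
  add {W a b} ha hb i j := by
    have e : ∀ k, tc V k (a + b) = tc V k a + tc V k b := fun k =>
      map_add ((Pi.π (fun i => triv (V i)) k).app W).hom a b
    simp only [rY, e, map_add, add_mul] at *
    rw [ha i j, hb i j]
  smul {W} r {a} ha i j := by
    rw [tc_smul, tc_smul, rY_mul, rY_mul, rY_rY, rY_rY, ha i j, mul_assoc]
  res {W W'} h {a} ha i j := by
    have := congrArg (rY (inf_le_inf (cut_mono (V i) h) (cut_mono (V j) h))) (ha i j)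
    rw [rY_mul, rY_rY, rY_rY, rY_rY] at this
    show rY _ (tc V j (res (tuples V) h a)) = rY _ (tc V i (res (tuples V) h a)) * _
    rw [tc_res, tc_res, rY_rY, rY_rY]
    exact this
  local' {W} a ha i j := by
    refine TopCat.Presheaf.section_ext Y.sheaf _ _ _ fun y hy => ?_
    obtain ⟨W', h, hyW', hm⟩ := ha y (cut_le _ _ hy.1)
    have hm' : rY (inf_le_right : cut (V i) W' ⊓ cut (V j) W' ≤ cut (V j) W') (tc V j (res (tuples V) h a)) =
        rY (inf_le_left : cut (V i) W' ⊓ cut (V j) W' ≤ cut (V i) W') (tc V i (res (tuples V) h a)) *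
          rY (inf_le_right.trans (cut_le_left (V j) W')) (C i j) := hm i j
    rw [tc_res, tc_res, rY_rY, rY_rY] at hm'
    have hy' : y ∈ cut (V i) W' ⊓ cut (V j) W' :=
      ⟨le_cut _ _ ⟨hyW', cut_le_left _ _ hy.1⟩, le_cut _ _ ⟨hyW', cut_le_left _ _ hy.2⟩⟩
    have h' := congrArg (Y.presheaf.germ _ y hy') hm'
    change Y.presheaf.germ _ y hy _ = Y.presheaf.germ _ y hy _
    simp only [rY, map_mul, TopCat.Presheaf.germ_res_apply] at h' ⊢
    exact h'

variable {V C}

/-- An invertible module with sections whose loci are cut out by a cocycle. -/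
theorem exists_invertible_of_cocycle (hcov : ∀ y : Y, ∃ i, y ∈ V i) (hone : ∀ i, C i i = 1)
    (hcoc : ∀ i j k, rY (inf_le_left : V j ⊓ V k ≤ V j) (C i j) * rY (inf_le_right : V j ⊓ V k ≤ V k) (C j k) =
      rY (inf_le_right : V j ⊓ V k ≤ V k) (C i k)) :
    ∃ (M : Y.Modules) (hM : PicF.IsInvertible M) (τ : ι → Γ(M, ⊤)),
      ∀ i j, genSet hM (τ i) ⊓ V j = Y.basicOpen (C i j) := by
  let S := twisted V C
  choose t ht using fun i => exists_tuple V (W := (⊤ : Y.Opens)) fun j => rY (cut_le_left (V j) ⊤) (C i j)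
  have hmem : ∀ i, S.mem ⊤ (t i) := fun i j k => by
    have := congrArg (rY (le_inf (inf_le_left.trans (cut_le_left (V j) ⊤)) (inf_le_right.trans (cut_le_left (V k) ⊤)) :
      cut (V j) ⊤ ⊓ cut (V k) ⊤ ≤ V j ⊓ V k)) (hcoc i j k)
    rw [rY_mul, rY_rY, rY_rY, rY_rY] at this
    rw [ht i j, ht i k, rY_rY, rY_rY]
    exact this.symm
  let τ : ι → Γ(S.toModules, ⊤) := fun i => S.lift (t i) (hmem i)
  have hτ : ∀ i (W : Y.Opens) j, tc V j (S.ι.app W (res S.toModules le_top (τ i))) =
      rY (cut_le_left (V j) W) (C i j) := fun i W j => by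
    rw [show S.ι.app W (res S.toModules le_top (τ i)) = res (tuples V) le_top (t i) from
      QCohLib.app_map S.ι (homOfLE le_top) (τ i), tc_res, ht i j, rY_rY]
  have hsm : ∀ i (W : Y.Opens) (r : Γ(Y, W)) j, tc V j (S.ι.app W (r • res S.toModules le_top (τ i))) =
      rY (cut_le (V j) W) r * rY (cut_le_left (V j) W) (C i j) := fun i W r j => by
    rw [QCohLib.app_smul, tc_smul, hτ]
  have hkey : ∀ i (W : Y.Opens), W ≤ V i → ∀ a : Γ(tuples V, W), S.mem W a → tc V i a = 0 → a = 0 :=
    fun i W hW a ha h0 => tuple_ext V fun j => by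
      rw [tc_zero]
      have h1 := ha i j
      rw [h0] at h1
      have hle : cut (V j) W ≤ cut (V i) W ⊓ cut (V j) W :=
        le_inf ((le_inf (cut_le _ _) ((cut_le _ _).trans hW)).trans (le_cut (V i) W)) le_rfl
      have h2 := congrArg (rY hle) h1
      rw [rY_mul, rY_rY, rY_rY, rY_rY, show rY (hle.trans inf_le_left) (0 : Γ(Y, cut (V i) W)) = 0 from map_zero _,
        zero_mul] at h2
      exact (AmpleLib.res_refl (Coh.structureModule Y) (tc V j a)).symm.trans h2
  have hgen : ∀ i, GenOn S.toModules (res S.toModules (le_top : V i ≤ ⊤) (τ i)) := by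
    intro i W hW
    simp only [AmpleLib.res_res]
    have hle : W ≤ cut (V i) W := (le_inf le_rfl hW).trans (le_cut (V i) W)
    have hre : ∀ r : Γ(Y, W), rY hle (rY (cut_le (V i) W) r) = r := fun r =>
      (rY_rY _ _ r).trans (AmpleLib.res_refl (Coh.structureModule Y) r)
    have hi : ∀ r : Γ(Y, W), tc V i (S.ι.app W (r • res S.toModules le_top (τ i))) = rY (cut_le (V i) W) r := fun r => by
      rw [hsm, hone, show rY (cut_le_left (V i) W) (1 : Γ(Y, V i)) = 1 from map_one _, mul_one]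
    refine ⟨fun r r' e => ?_, fun s => ?_⟩
    · have := congrArg (fun z => rY hle (tc V i (S.ι.app W z))) e
      simpa only [hi, hre] using this
    · refine ⟨rY hle (tc V i (S.ι.app W s)), S.ι_app_injective W (sub_eq_zero.mp ?_).symm⟩
      refine hkey i W hW _ ((S.sub W).sub_mem (S.ι_app_mem s) (S.ι_app_mem _)) ?_
      rw [tc_sub, hi, sub_eq_zero, rY_rY]
      exact (AmpleLib.res_refl (Coh.structureModule Y) _).symm
  have hM : PicF.IsInvertible S.toModules :=
    TwistLib.isInvertible_of_genOn V (fun y => hcov y) _ hgen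
  refine ⟨S.toModules, hM, τ, fun i j => ?_⟩
  refine AmpleThLib.mem_genSet_coeff hM (τ i) (hgen j) (r := C i j) (S.ι_app_injective _ (sub_eq_zero.mp ?_))
  refine hkey j (V j) le_rfl _ ((S.sub (V j)).sub_mem (S.ι_app_mem _) (S.ι_app_mem _)) ?_
  rw [tc_sub, hsm, hτ, hone, show rY (cut_le_left (V j) (V j)) (1 : Γ(Y, V j)) = 1 from map_one _, mul_one,
    sub_eq_zero]

end NormDescLib
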