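import Groth.Agent.NormDescLib.Ample
import Groth.Agent.NormDescLib.Cocycle

/-!
# The norm of an ample invertible module
-/

set_option autoImplicit false
universe u

open CategoryTheory CategoryTheory.Limits AlgebraicGeometry TopologicalSpace Opposite
open AmpleLib AmpleThLib
open TwistLib (genSet)

noncomputable section

namespace NormDescLib

variable {X Y : Scheme.{u}} {π : X ⟶ Y} [IsFinite π] {d : ℕ} (N : Nrm.NormOfDegree π d)

include N in
theorem exists_isAmple {L : X.Modules} (hA : CohB1.IsAmple L) : ∃ M : Y.Modules, CohB1.IsAmple M := by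
  haveI := surjective N
  haveI : CompactSpace X := hA.2.1
  haveI : CompactSpace Y := π.surjective.compactSpace π.continuous
  obtain ⟨n, hn, hcov⟩ := exists_saturated_cover π hA
  choose V hyV hV σ hσ using hcov
  have hLn := tensorPow_isInvertible hA.1 n
  have hgen : ∀ i, GenOn (CohB1.tensorPow L n)
      (res (CohB1.tensorPow L n) (le_top : π ⁻¹ᵁ V i ≤ ⊤) (σ i)) := fun i => by
    have h := (TwistLib.genSet_genOn hLn (σ i)).res (hσ i).ge
    rw [res_res] at h
    exact h
  choose r hr using fun i j : Y => exists_coeff (σ i) (hgen j)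
  let C : ∀ _ j : Y, Γ(Y, V j) := fun i j => N.norm (V j) (r i j)
  have hone : ∀ i, C i i = 1 := fun i => by
    have : r i i = 1 := by
      refine (hgen i _ le_rfl).1 ?_
      dsimp only
      rw [res_refl, one_smul]
      exact hr i i
    show N.norm (V i) (r i i) = 1
    rw [this, map_one]
  have hcoc : ∀ i j k, rY (inf_le_left : V j ⊓ V k ≤ V j) (C i j) * rY (inf_le_right : V j ⊓ V k ≤ V k) (C j k) =
      rY (inf_le_right : V j ⊓ V k ≤ V k) (C i k) := fun i j k => by
    show rs inf_le_left (N.norm _ _) * rs inf_le_right (N.norm _ _) = rs inf_le_right (N.norm _ _)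
    rw [norm_rs, norm_rs, norm_rs, ← map_mul]
    refine congrArg (N.norm _) (((hgen k).res (π.preimage_mono (inf_le_right : V j ⊓ V k ≤ V k)) _ le_rfl).1 ?_)
    have h1 := congrArg (res (CohB1.tensorPow L n) (π.preimage_mono (inf_le_left : V j ⊓ V k ≤ V j))) (hr i j)
    have h2 := congrArg (res (CohB1.tensorPow L n) (π.preimage_mono (inf_le_right : V j ⊓ V k ≤ V k))) (hr j k)
    have h3 := congrArg (res (CohB1.tensorPow L n) (π.preimage_mono (inf_le_right : V j ⊓ V k ≤ V k))) (hr i k)
    simp only [AmpleLib.res_smul, res_res] at h1 h2 h3 ⊢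
    rw [h3, ← h1, ← h2, smul_smul]
  obtain ⟨M, hM, τ, hτ⟩ := exists_invertible_of_cocycle (fun y => ⟨y, hyV y⟩) hone hcoc
  have hloc : ∀ i, genSet hM (τ i) = V i := fun i => by
    have hj : ∀ j, genSet hM (τ i) ⊓ V j = V i ⊓ V j := fun j => by
      rw [hτ i j]
      refine basicOpen_norm N inf_le_right (r i j) ?_
      rw [← mem_genSet_coeff hLn (σ i) (hgen j) (hr i j), hσ i]
      rfl
    ext y
    have := SetLike.ext_iff.mp (hj y) y
    simpa [hyV y] using this
  refine ⟨M, (isAmple_iff (hL := hM)).mpr ⟨inferInstance, fun y => ⟨1, V y, one_pos,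
    ⟨pS (τ y) 1, (genSet_pS hM (τ y) one_pos).trans (hloc y)⟩, hyV y, hV y⟩⟩⟩

end NormDescLib
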