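import Groth.Prelude.Def_Fitting
import Mathlib.AlgebraicGeometry.Morphisms.Finite
import Mathlib.AlgebraicGeometry.Morphisms.UniversallyClosed

/-!
# Norms of finite morphisms: loci of invertibility
-/

set_option autoImplicit false
universe u

open CategoryTheory CategoryTheory.Limits AlgebraicGeometry TopologicalSpace Opposite

noncomputable section

namespace NormDescLib

variable {X Y : Scheme.{u}} {π : X ⟶ Y} {d : ℕ} (N : Nrm.NormOfDegree π d)

/-- Restriction of functions. -/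
abbrev rs {X : Scheme.{u}} {U V : X.Opens} (h : V ≤ U) (s : Γ(X, U)) : Γ(X, V) :=
  X.presheaf.map (homOfLE h).op s

theorem rs_rs {X : Scheme.{u}} {U V W : X.Opens} (h : V ≤ U) (h' : W ≤ V) (s : Γ(X, U)) :
    rs h' (rs h s) = rs (h'.trans h) s :=
  (ConcreteCategory.congr_hom (X.presheaf.map_comp (homOfLE h).op (homOfLE h').op) s).symm

theorem norm_rs {U V : Y.Opens} (h : V ≤ U) (s : Γ(X, π ⁻¹ᵁ U)) :
    rs h (N.norm U s) = N.norm V (rs (π.preimage_mono h) s) :=
  N.norm_res (homOfLE h) s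

include N in
theorem surjective [IsFinite π] : Surjective π := by
  refine ⟨fun y => ?_⟩
  by_contra hy
  let U : Y.Opens := ⟨(Set.range π)ᶜ, π.isClosedMap.isClosed_range.isOpen_compl⟩
  have hU : π ⁻¹ᵁ U = ⊥ := eq_bot_iff.mpr fun x hx => (hx ⟨x, rfl⟩).elim
  haveI : Subsingleton Γ(X, π ⁻¹ᵁ U) := by
    rw [hU]
    exact CommRingCat.subsingleton_of_isTerminal X.sheaf.isTerminalOfEmpty
  have h1 : (0 : Γ(Y, U)) ^ d = 1 :=
    ((N.norm_app U 0).symm.trans (congrArg (N.norm U) (Subsingleton.elim _ 1))).trans (map_one _)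
  rw [zero_pow (Nat.one_le_iff_ne_zero.mp N.one_le)] at h1
  have h2 := congrArg (Y.presheaf.germ U y hy) h1
  rw [map_zero, map_one] at h2
  exact zero_ne_one h2

theorem mem_basicOpen_norm_iff [IsFinite π] {U : Y.Opens} (s : Γ(X, π ⁻¹ᵁ U)) {y : Y} (hy : y ∈ U) :
    y ∈ Y.basicOpen (N.norm U s) ↔ ∀ x, π x = y → x ∈ X.basicOpen s := by
  constructor
  · rintro h x rfl
    by_contra hx
    exact N.norm_mem U s x hy ((IsLocalRing.mem_maximalIdeal _).mpr fun hu => hx ((X.mem_basicOpen s x hy).mpr hu))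
      ((Y.mem_basicOpen _ _ hy).mp h)
  · intro h
    let W : Y.Opens := U ⊓ ⟨(π '' (X.basicOpen s : Set X)ᶜ)ᶜ,
      (π.isClosedMap _ (X.basicOpen s).2.isClosed_compl).isOpen_compl⟩
    have hW : π ⁻¹ᵁ W ≤ X.basicOpen s := fun x hx => not_not.mp fun hn => hx.2 ⟨x, hn, rfl⟩
    have hu : IsUnit (rs (π.preimage_mono (inf_le_left : W ≤ U)) s) := by
      rw [← rs_rs (X.basicOpen_le s) hW]
      exact (RingedSpace.isUnit_res_basicOpen X.toRingedSpace s).map _
    have hu' := hu.map (N.norm W)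
    rw [← norm_rs N (inf_le_left : W ≤ U)] at hu'
    have hyW : y ∈ W := ⟨hy, fun ⟨x, hx, hxy⟩ => hx (h x hxy)⟩
    rw [Y.mem_basicOpen _ _ hy]
    have := hu'.map (Y.presheaf.germ W y hyW).hom
    rwa [TopCat.Presheaf.germ_res_apply] at this

theorem basicOpen_norm [IsFinite π] {U V : Y.Opens} (hVU : V ≤ U) (s : Γ(X, π ⁻¹ᵁ U))
    (h : X.basicOpen s = π ⁻¹ᵁ V) : Y.basicOpen (N.norm U s) = V := by
  ext y
  refine ⟨fun hy => ?_, fun hy => (mem_basicOpen_norm_iff N s (hVU hy)).mpr fun x hx => h ▸ (show π x ∈ V from hx ▸ hy)⟩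
  obtain ⟨x, rfl⟩ := (surjective N).surj y
  have := (mem_basicOpen_norm_iff N s (Y.basicOpen_le _ hy)).mp hy x rfl
  rw [h] at this
  exact this

end NormDescLib
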