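import Groth.Agent.NormDescLib.Basic
import Mathlib.AlgebraicGeometry.AffineScheme

/-!
# Norms from norms on a basis of affine opens
-/

set_option autoImplicit false
universe u

open CategoryTheory CategoryTheory.Limits AlgebraicGeometry TopologicalSpace Opposite

noncomputable section

namespace NormDescLib

variable {X Y : Scheme.{u}} {π : X ⟶ Y}

theorem app_rs {U V : Y.Opens} (h : V ≤ U) (g : Γ(Y, U)) :
    π.app V (rs h g) = rs (π.preimage_mono h) (π.app U g) := by
  rw [← CommRingCat.comp_apply, π.naturality]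
  rfl

theorem rs_refl {X : Scheme.{u}} {U : X.Opens} (s : Γ(X, U)) : rs (le_refl U) s = s :=
  ConcreteCategory.congr_hom (X.presheaf.map_id (op U)) s

theorem rs_one {X : Scheme.{u}} {U V : X.Opens} (h : V ≤ U) : rs h (1 : Γ(X, U)) = 1 :=
  map_one (X.presheaf.map (homOfLE h).op).hom

theorem rs_mul {X : Scheme.{u}} {U V : X.Opens} (h : V ≤ U) (a b : Γ(X, U)) :
    rs h (a * b) = rs h a * rs h b :=
  map_mul (X.presheaf.map (homOfLE h).op).hom a b

theorem rs_pow {X : Scheme.{u}} {U V : X.Opens} (h : V ≤ U) (a : Γ(X, U)) (n : ℕ) :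
    rs h (a ^ n) = rs h a ^ n :=
  map_pow (X.presheaf.map (homOfLE h).op).hom a n

/-- Norm maps on a family of affine opens stable under basic opens. -/
structure LocalNorm (π : X ⟶ Y) (d : ℕ) where
  one_le : 1 ≤ d
  good : Y.Opens → Prop
  affine : ∀ D, good D → IsAffineOpen D
  cover : ∀ y, ∃ D, good D ∧ y ∈ D
  good_basic : ∀ D, good D → ∀ f : Γ(Y, D), good (Y.basicOpen f)
  nrm : ∀ D, good D → (Γ(X, π ⁻¹ᵁ D) →* Γ(Y, D))
  nrm_basic : ∀ D (hD : good D) (f : Γ(Y, D)) (hf : good (Y.basicOpen f)) (s : Γ(X, π ⁻¹ᵁ D)),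
    rs (Y.basicOpen_le f) (nrm D hD s) = nrm _ hf (rs (π.preimage_mono (Y.basicOpen_le f)) s)
  nrm_app : ∀ D (hD : good D) (g : Γ(Y, D)), nrm D hD (π.app D g) = g ^ d
  nrm_unit : ∀ D (hD : good D) (s : Γ(X, π ⁻¹ᵁ D)), IsUnit (nrm D hD s) → IsUnit s

namespace LocalNorm

variable {d : ℕ} (P : LocalNorm π d)

theorem exists_good_le {U : Y.Opens} {y : Y} (hy : y ∈ U) : ∃ D, P.good D ∧ y ∈ D ∧ D ≤ U := by
  obtain ⟨D, hD, hyD⟩ := P.cover y
  obtain ⟨f, hf, hyf⟩ := (P.affine D hD).exists_basicOpen_le (V := U) ⟨y, hy⟩ hyD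
  exact ⟨_, P.good_basic D hD f, hyf, hf⟩

theorem nrm_congr {D E : Y.Opens} (e : D = E) (hD : P.good D) (hE : P.good E) {U : Y.Opens} (hDU : D ≤ U)
    (hEU : E ≤ U) (s : Γ(X, π ⁻¹ᵁ U)) {V : Y.Opens} (hVD : V ≤ D) (hVE : V ≤ E) :
    rs hVD (P.nrm D hD (rs (π.preimage_mono hDU) s)) = rs hVE (P.nrm E hE (rs (π.preimage_mono hEU) s)) := by
  subst e
  rfl

theorem nrm_compat {U D E : Y.Opens} (hD : P.good D) (hE : P.good E) (hDU : D ≤ U) (hEU : E ≤ U)
    (s : Γ(X, π ⁻¹ᵁ U)) {V : Y.Opens} (hVD : V ≤ D) (hVE : V ≤ E) :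
    rs hVD (P.nrm D hD (rs (π.preimage_mono hDU) s)) = rs hVE (P.nrm E hE (rs (π.preimage_mono hEU) s)) := by
  refine TopCat.Presheaf.section_ext Y.sheaf V _ _ fun y hy => ?_
  obtain ⟨f, g, hfg, hyf⟩ := exists_basicOpen_le_affine_inter (P.affine D hD) (P.affine E hE) y ⟨hVD hy, hVE hy⟩
  have hf := P.good_basic D hD f
  have hg := P.good_basic E hE g
  have key := P.nrm_congr hfg hf hg ((Y.basicOpen_le f).trans hDU) ((Y.basicOpen_le g).trans hEU) s
    (V := Y.basicOpen f) le_rfl hfg.le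
  have h1 := P.nrm_basic D hD f hf (rs (π.preimage_mono hDU) s)
  have h2 := P.nrm_basic E hE g hg (rs (π.preimage_mono hEU) s)
  rw [rs_rs] at h1 h2
  rw [← h1, ← h2, rs_refl, rs_rs] at key
  have := congrArg (Y.presheaf.germ _ y hyf) key
  simp only [rs, TopCat.Presheaf.germ_res_apply] at this ⊢
  change Y.presheaf.germ V y hy _ = Y.presheaf.germ V y hy _
  simp only [TopCat.Presheaf.germ_res_apply]
  exact this

theorem existsUnique_glued (U : Y.Opens) (s : Γ(X, π ⁻¹ᵁ U)) :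
    ∃! t : Γ(Y, U), ∀ D (hD : P.good D) (h : D ≤ U), rs h t = P.nrm D hD (rs (π.preimage_mono h) s) := by
  let ι := {D : Y.Opens // P.good D ∧ D ≤ U}
  obtain ⟨t, ht, huniq⟩ := Y.sheaf.existsUnique_gluing' (fun D : ι => D.1) U (fun D => homOfLE D.2.2)
    (fun y hy => by
      obtain ⟨D, hD, hyD, hDU⟩ := P.exists_good_le hy
      exact Opens.mem_iSup.mpr ⟨⟨D, hD, hDU⟩, hyD⟩)
    (fun D => P.nrm D.1 D.2.1 (rs (π.preimage_mono D.2.2) s))
    (fun D E => P.nrm_compat D.2.1 E.2.1 D.2.2 E.2.2 s inf_le_left inf_le_right)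
  exact ⟨t, fun D hD h => ht ⟨D, hD, h⟩, fun t' ht' => huniq t' fun D => ht' D.1 D.2.1 D.2.2⟩

/-- The glued norm. -/
def glued (U : Y.Opens) (s : Γ(X, π ⁻¹ᵁ U)) : Γ(Y, U) := (P.existsUnique_glued U s).choose

theorem glued_spec (U : Y.Opens) (s : Γ(X, π ⁻¹ᵁ U)) {D : Y.Opens} (hD : P.good D) (h : D ≤ U) :
    rs h (P.glued U s) = P.nrm D hD (rs (π.preimage_mono h) s) :=
  (P.existsUnique_glued U s).choose_spec.1 D hD h

theorem glued_unique {U : Y.Opens} (s : Γ(X, π ⁻¹ᵁ U)) {t : Γ(Y, U)}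
    (h : ∀ D (hD : P.good D) (h : D ≤ U), rs h t = P.nrm D hD (rs (π.preimage_mono h) s)) :
    P.glued U s = t :=
  (P.existsUnique_glued U s).unique (P.existsUnique_glued U s).choose_spec.1 h

/-- The norm of degree `d` glued from the local norms. -/
def toNorm : Nrm.NormOfDegree π d where
  one_le := P.one_le
  norm U :=
    { toFun := P.glued U
      map_one' := P.glued_unique 1 fun D hD h => by
        rw [rs_one, rs_one, map_one]
      map_mul' := fun a b => P.glued_unique (a * b) fun D hD h => by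
        rw [rs_mul, rs_mul, map_mul, P.glued_spec U a hD h, P.glued_spec U b hD h] }
  norm_res {U V} i s := by
    refine (P.glued_unique _ fun D hD h => ?_).symm
    change rs h (rs (leOfHom i) (P.glued U s)) = _
    rw [rs_rs, P.glued_spec U s hD]
    exact congrArg (P.nrm D hD) (rs_rs _ _ s).symm
  norm_app U g := by
    refine P.glued_unique _ fun D hD h => ?_
    rw [rs_pow, ← app_rs, P.nrm_app]
  norm_mem U s x hx hs := by
    obtain ⟨D, hD, hxD, hDU⟩ := P.exists_good_le hx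
    by_contra hu
    have hu' : IsUnit (Y.presheaf.germ U (π x) hx (P.glued U s)) := by
      by_contra h
      exact hu ((IsLocalRing.mem_maximalIdeal _).mpr h)
    rw [← TopCat.Presheaf.germ_res_apply Y.presheaf (homOfLE hDU) (π x) hxD] at hu'
    let f := P.nrm D hD (rs (π.preimage_mono hDU) s)
    have hxf : π x ∈ Y.basicOpen f := by
      rw [Y.mem_basicOpen f _ hxD]
      have e : rs hDU (P.glued U s) = f := P.glued_spec U s hD hDU
      rw [← e]
      exact hu'
    have h1 := P.nrm_basic D hD f (P.good_basic D hD f) (rs (π.preimage_mono hDU) s)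
    have h2 : IsUnit (rs (Y.basicOpen_le f) f) := RingedSpace.isUnit_res_basicOpen Y.toRingedSpace f
    rw [h1] at h2
    have h3 := (P.nrm_unit _ _ _ h2).map (X.presheaf.germ _ x hxf).hom
    simp only [rs, TopCat.Presheaf.germ_res_apply] at h3
    exact ((IsLocalRing.mem_maximalIdeal _).mp hs) h3

end LocalNorm

end NormDescLib
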