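import Groth.Agent.NormDescLib.Glue
import Groth.Agent.AmpleDevLib.Pull
import Groth.Agent.AmpleThLib.FiniteSet
import Mathlib.AlgebraicGeometry.Morphisms.QuasiFinite

/-!
# Ampleness descends along finite morphisms with a norm
-/

set_option autoImplicit false
universe u

open CategoryTheory CategoryTheory.Limits AlgebraicGeometry TopologicalSpace Opposite
open AmpleLib AmpleThLib
open TwistLib (genSet)
open KFlatLib (pb puSec)

noncomputable section

namespace NormDescLib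

variable {X Y : Scheme.{u}}

/-- Basic opens of an affine locus are loci. -/
theorem isLocus_basicOpen [CompactSpace X] [QuasiSeparatedSpace X] {L : X.Modules} {hL : PicF.IsInvertible L}
    {d : ℕ} (hd : 0 < d) {G : X.Opens} (hG : IsLocus hL d G) (g : Γ(X, G)) :
    ∃ m, 0 < m ∧ IsLocus hL m (X.basicOpen g) := by
  obtain ⟨t, ht⟩ := hG
  subst ht
  obtain ⟨N, hN⟩ := exists_extend hL (r := 0) t g
  obtain ⟨u, hu⟩ := hN N le_rfl
  have hgen : GenOn _ (mul hL (m := 0) (show Γ(CohB1.tensorPow L 0,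
      genSet (tensorPow_isInvertible hL d) t) from (1 : Γ(X, _))) (res _ le_top (tPow hL t N))) :=
    mul_genOn hL (one_genOn _) (tPow_genOn hL t le_rfl N)
  have hcoef : g • mul hL (m := 0) (show Γ(CohB1.tensorPow L 0,
      genSet (tensorPow_isInvertible hL d) t) from (1 : Γ(X, _))) (res _ le_top (tPow hL t N)) =
        res _ le_top u := by
    rw [hu]
    have e := mul_smul_smul hL (m := 0) g 1 (show Γ(CohB1.tensorPow L 0,
      genSet (tensorPow_isInvertible hL d) t) from (1 : Γ(X, _))) (res _ le_top (tPow hL t N))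
    rw [one_smul, mul_one] at e
    rw [← e]
    exact congrArg (fun z : Γ(CohB1.tensorPow L 0, genSet (tensorPow_isInvertible hL d) t) =>
      mul hL z (res _ le_top (tPow hL t N))) (mul_one g)
  have hl := mem_genSet_coeff (tensorPow_isInvertible hL (0 + d * N)) u hgen hcoef
  exact ⟨0 + d * N + d, by omega, mul hL u t, (genSet_mul hL u t).trans hl⟩

variable (π : X ⟶ Y) [IsFinite π]

/-- Each point of the base has an affine neighbourhood whose preimage is a locus. -/
theorem exists_saturated_locus {L : X.Modules} (hA : CohB1.IsAmple L) (y : Y) :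
    ∃ (n : ℕ) (V : Y.Opens), 0 < n ∧ y ∈ V ∧ IsAffineOpen V ∧ IsLocus hA.1 n (π ⁻¹ᵁ V) := by
  haveI : CompactSpace X := hA.2.1
  haveI := AmpleThLib.quasiSeparatedSpace_of_isAmple hA
  obtain ⟨U, hU, hyU, -⟩ := exists_isAffineOpen_mem_and_subset (x := y) (U := (⊤ : Y.Opens)) trivial
  obtain ⟨n, G, hn, hG, hZG, hGU, -⟩ := exists_locus_finset hA.1 hA (π.finite_preimage_singleton y) (π ⁻¹ᵁ U)
    fun z hz => show π z ∈ U from (Set.mem_singleton_iff.mp hz) ▸ hyU
  let V₀ : Y.Opens := U ⊓ ⟨(π '' (G : Set X)ᶜ)ᶜ, (π.isClosedMap _ G.2.isClosed_compl).isOpen_compl⟩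
  obtain ⟨h, hle, hyh⟩ := hU.exists_basicOpen_le (V := V₀)
    ⟨y, hyU, fun ⟨x, hx, hxy⟩ => hx (hZG hxy)⟩ hyU
  obtain ⟨m, hm, hloc⟩ := isLocus_basicOpen hn hG (rs hGU (π.app U h))
  refine ⟨m, Y.basicOpen h, hm, hyh, hU.basicOpen h, ?_⟩
  convert hloc using 1
  rw [Scheme.basicOpen_res, Scheme.preimage_basicOpen]
  exact (inf_eq_right.mpr fun x hx => not_not.mp fun hn' =>
    (hle ((Scheme.preimage_basicOpen π h).ge hx : π x ∈ Y.basicOpen h)).2 ⟨x, hn', rfl⟩).symm

/-- A common exponent for saturated affine loci covering the base. -/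
theorem exists_saturated_cover [Surjective π] {L : X.Modules} (hA : CohB1.IsAmple L) :
    ∃ n, 0 < n ∧ ∀ y : Y, ∃ V : Y.Opens, y ∈ V ∧ IsAffineOpen V ∧ IsLocus hA.1 n (π ⁻¹ᵁ V) := by
  classical
  haveI : CompactSpace X := hA.2.1
  haveI : CompactSpace Y := π.surjective.compactSpace π.continuous
  choose n V hn hyV hV hloc using exists_saturated_locus π hA
  obtain ⟨t, ht⟩ := isCompact_univ.elim_finite_subcover (fun y => (V y : Set Y)) (fun y => (V y).2)
    fun y _ => Set.mem_iUnion.mpr ⟨y, hyV y⟩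
  refine ⟨∏ z ∈ t, n z, Finset.prod_pos fun z _ => hn z, fun y => ?_⟩
  obtain ⟨z, hz, hyz⟩ := Set.mem_iUnion₂.mp (ht (Set.mem_univ y))
  obtain ⟨k, hk⟩ := Finset.dvd_prod_of_mem n hz
  refine ⟨V z, hyz, hV z, ?_⟩
  rw [hk]
  refine (hloc z).mul_right (Nat.pos_of_ne_zero fun h => ?_)
  have := Finset.prod_pos (s := t) fun z _ => hn z
  rw [hk, h, mul_zero] at this
  exact lt_irrefl 0 this

variable {π} {d : ℕ} (N : Nrm.NormOfDegree π d)

include N in
/-- The norm of a section of the inverse image, as a section of a power. -/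
theorem exists_norm_section {M : Y.Modules} (hM : PicF.IsInvertible M) (σ : Γ(pb π M, ⊤)) {V : Y.Opens}
    (hσ : genSet (AmpleDevLib.isInvertible_pb π hM) σ = π ⁻¹ᵁ V) :
    ∃ τ : Γ(CohB1.tensorPow M d, ⊤), genSet (tensorPow_isInvertible hM d) τ = V := by
  have hgen : ∀ a : Gens M, GenOn (pb π M) (puSec π a.2.1) := fun a => AmpleDevLib.puSec_genOn π a.2.2
  choose c hc using fun a : Gens M => exists_coeff σ (hgen a)
  let S : TopCat.Sheaf AddCommGrpCat.{u} Y.toTopCat := (QCohLib.toAbF Y).obj (CohB1.tensorPow M d)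
  let sec : ∀ a : Gens M, Γ(CohB1.tensorPow M d, a.1) := fun a => N.norm a.1 (c a) • pS a.2.1 d
  have hcompat : ∀ a b : Gens M, res _ (inf_le_left : a.1 ⊓ b.1 ≤ a.1) (sec a) =
      res _ (inf_le_right : a.1 ⊓ b.1 ≤ b.1) (sec b) := by
    intro a b
    obtain ⟨t, ht⟩ := (a.2.2 (a.1 ⊓ b.1) inf_le_left).2 (res M inf_le_right b.2.1)
    dsimp only at ht
    have ha : π ⁻¹ᵁ (a.1 ⊓ b.1) ≤ π ⁻¹ᵁ a.1 := fun x hx => hx.1
    have hb : π ⁻¹ᵁ (a.1 ⊓ b.1) ≤ π ⁻¹ᵁ b.1 := fun x hx => hx.2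
    have h1 : π.app (a.1 ⊓ b.1) t • res (pb π M) ha (puSec π a.2.1) = res (pb π M) hb (puSec π b.2.1) := by
      rw [← TwistLib.puSec_res π inf_le_left, ← TwistLib.puSec_res π inf_le_right, ← ht, TwistLib.puSec_smul]
    have h2 : rs ha (c a) = rs hb (c b) * π.app (a.1 ⊓ b.1) t := by
      refine ((hgen a).res ha _ le_rfl).1 ?_
      dsimp only
      rw [res_refl]
      refine ((res_smul (pb π M) ha (c a) _).symm.trans (congrArg (res (pb π M) ha) (hc a))).trans ?_
      rw [res_res, mul_smul, h1, ← res_smul, hc b, res_res]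
    rw [res_smul, res_smul, pS_res, pS_res, ← ht, pS_smul, smul_smul]
    refine congrArg (· • _) ?_
    change rs inf_le_left (N.norm a.1 (c a)) = rs inf_le_right (N.norm b.1 (c b)) * t ^ d
    rw [norm_rs, norm_rs, ← N.norm_app, ← map_mul, ← h2]
  obtain ⟨τ, hτ, -⟩ := TopCat.Sheaf.existsUnique_gluing' S (fun a : Gens M => a.1) ⊤
    (fun a => homOfLE le_top) (fun y _ => by
      obtain ⟨a, ha⟩ := gens_cover hM y
      exact Opens.mem_iSup.mpr ⟨a, ha⟩) sec hcompat
  have hloc : ∀ a : Gens M, genSet (tensorPow_isInvertible hM d) τ ⊓ a.1 = V ⊓ a.1 := fun a => by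
    rw [mem_genSet_coeff (tensorPow_isInvertible hM d) τ (pS_genOn a.2.2 d) (hτ a).symm]
    refine basicOpen_norm N inf_le_right (c a) ?_
    rw [← mem_genSet_coeff (AmpleDevLib.isInvertible_pb π hM) σ (hgen a) (hc a), hσ]
    rfl
  refine ⟨τ, ?_⟩
  ext y
  obtain ⟨a, ha⟩ := gens_cover hM y
  have := SetLike.ext_iff.mp (hloc a) y
  simpa [ha] using this

include N in
theorem isAmple_of_isAmple_pb {L : Y.Modules} (hL : PicF.IsInvertible L) (hA : CohB1.IsAmple (pb π L)) :
    CohB1.IsAmple L := by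
  haveI := surjective N
  haveI : CompactSpace X := hA.2.1
  haveI : CompactSpace Y := π.surjective.compactSpace π.continuous
  obtain ⟨n, hn, hcov⟩ := exists_saturated_cover π hA
  refine (isAmple_iff (hL := hL)).mpr ⟨inferInstance, fun y => ?_⟩
  obtain ⟨V, hyV, hV, σ, hσ⟩ := hcov y
  obtain ⟨φ, -⟩ := AmpleDevLib.exists_pullPowIso π hL n
  have hp := AmpleDevLib.isInvertible_pb π (tensorPow_isInvertible hL n)
  obtain ⟨τ, hτ⟩ := exists_norm_section N (tensorPow_isInvertible hL n) (φ.inv.app ⊤ σ) (V := V)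
    ((genSet_iso (tensorPow_isInvertible (AmpleDevLib.isInvertible_pb π hL) n) hp φ.symm σ).trans hσ)
  obtain ⟨ψ, -⟩ := exists_powIso hL n d
  exact ⟨n * d, V, Nat.mul_pos hn N.one_le, ⟨ψ.hom.app ⊤ τ,
    (genSet_iso (tensorPow_isInvertible (tensorPow_isInvertible hL n) d) _ ψ τ).trans hτ⟩, hyV, hV⟩

end NormDescLib
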