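import Groth.Agent.NormDescLib.Push
import Groth.Agent.NormDescLib.Ample
import Groth.Agent.MiscFlat6.RelAmpleLocal

/-!
# Relative ampleness along finite morphisms with norms
-/

set_option autoImplicit false
universe u

open CategoryTheory CategoryTheory.Limits AlgebraicGeometry TopologicalSpace Opposite
open KFlatLib (pb puSec)

noncomputable section

namespace NormDescLib

variable {X' X Y : Scheme.{u}} (g : X' ⟶ X)

/-- Restriction of an inverse image. -/
def restrictPbIso (L : X.Modules) (U : X.Opens) :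
    pb (g ∣_ U) (L.restrict U.ι) ≅ (pb g L).restrict (g ⁻¹ᵁ U).ι :=
  (Scheme.Modules.pullback _).mapIso ((Scheme.Modules.restrictFunctorIsoPullback U.ι).app L) ≪≫
    (Scheme.Modules.pullbackComp _ U.ι).app L ≪≫
    (Scheme.Modules.pullbackCongr (morphismRestrict_ι g U)).app L ≪≫
    ((Scheme.Modules.pullbackComp (g ⁻¹ᵁ U).ι g).app L).symm ≪≫
    ((Scheme.Modules.restrictFunctorIsoPullback (g ⁻¹ᵁ U).ι).app _).symm

theorem isAmple_restrict_pb [IsAffineHom g] {L : X.Modules} (hL : PicF.IsInvertible L) (U : X.Opens)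
    (hA : CohB1.IsAmple (L.restrict U.ι)) : CohB1.IsAmple ((pb g L).restrict (g ⁻¹ᵁ U).ι) := by
  haveI : IsAffineHom (g ∣_ U) := IsZariskiLocalAtTarget.restrict ‹IsAffineHom g› U
  have h1 := AmpleDevLib.isAmple_pb (g ∣_ U) hA.1 hA
  exact AmpleDevLib.isAmple_of_iso h1.1
    (AmpleThLib.restrict_isInvertible (AmpleDevLib.isInvertible_pb g hL) _) (restrictPbIso g L U) h1

theorem isAmple_restrict_of_pb [IsFinite g] {L : X.Modules} (hL : PicF.IsInvertible L) (U : X.Opens)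
    (hN : ∃ d, Nrm.HasNorm (g ∣_ U) d) (hA : CohB1.IsAmple ((pb g L).restrict (g ⁻¹ᵁ U).ι)) :
    CohB1.IsAmple (L.restrict U.ι) := by
  obtain ⟨d, ⟨N⟩⟩ := hN
  haveI : IsFinite (g ∣_ U) := IsZariskiLocalAtTarget.restrict ‹IsFinite g› U
  have hL' := AmpleThLib.restrict_isInvertible hL U.ι
  exact isAmple_of_isAmple_pb N hL' (AmpleDevLib.isAmple_of_iso hA.1
    (AmpleDevLib.isInvertible_pb (g ∣_ U) hL') (restrictPbIso g L U).symm hA)

theorem relAmple_pb [IsAffineHom g] (f : X ⟶ Y) [QuasiCompact f] {L : X.Modules}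
    (hR : RelAmple.IsRelAmple f L) : RelAmple.IsRelAmple (g ≫ f) (pb g L) :=
  MiscFlat6.isRelAmple_of_local (g ≫ f) fun _ => ⟨⊤, trivial, fun V hV _ =>
    isAmple_restrict_pb g (MiscFlat6.invertible_of_relAmple hR) (f ⁻¹ᵁ V) (hR.2 ⟨V, hV⟩)⟩

theorem relAmple_of_pb [IsFinite g] (f : X ⟶ Y) [QuasiCompact f] {L : X.Modules} (hL : PicF.IsInvertible L)
    (hN : ∀ V : Y.affineOpens, ∃ d, Nrm.HasNorm (g ∣_ (f ⁻¹ᵁ V.1)) d)
    (hR : RelAmple.IsRelAmple (g ≫ f) (pb g L)) : RelAmple.IsRelAmple f L :=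
  MiscFlat6.isRelAmple_of_local f fun _ => ⟨⊤, trivial, fun V hV _ =>
    isAmple_restrict_of_pb g hL (f ⁻¹ᵁ V) (hN ⟨V, hV⟩) (hR.2 ⟨V, hV⟩)⟩

theorem hasBasis_congr {A B A' B' : Type u} [CommRing A] [CommRing B] [CommRing A'] [CommRing B']
    {i : A →+* B} {i' : A' →+* B'} (eA : A →+* A') (eB : B →+* B') (hA : Function.Bijective eA)
    (hB : Function.Bijective eB) (comm : i'.comp eA = eB.comp i) {n : ℕ} (h : HasBasis i n) :
    HasBasis i' n := by
  refine (normR_away eA eB comm (1 : A) ?_ ?_ h).1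
  · letI := eA.toAlgebra
    exact IsLocalization.away_of_isUnit_of_bijective A' isUnit_one hA
  · letI := eB.toAlgebra
    exact IsLocalization.away_of_isUnit_of_bijective B' ((isUnit_one).map i) hB

theorem hasBasis_restrict (U : X.Opens) (W : (U : Scheme.{u}).Opens) {n : ℕ}
    (h : HasBasis (g.app (U.ι ''ᵁ W)).hom n) : HasBasis ((g ∣_ U).app W).hom n := by
  rw [morphismRestrict_app g U W]
  refine hasBasis_congr (RingHom.id _) (X'.presheaf.map (eqToHom (image_morphismRestrict_preimage g U W)).op).hom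
    Function.bijective_id (ConcreteCategory.bijective_of_isIso _) ?_ h
  exact RingHom.comp_id _

theorem exists_norm_restrict_of_push [IsFinite g] [Surjective g] (U : X.Opens) [CompactSpace (U : Scheme.{u})]
    (h : FlatMod.IsFinLocFree ((Coh.push g).obj (Coh.structureModule X'))) :
    ∃ d, Nrm.HasNorm (g ∣_ U) d := by
  haveI : IsFinite (g ∣_ U) := IsZariskiLocalAtTarget.restrict ‹IsFinite g› U
  refine exists_hasNorm (g ∣_ U) fun x => ?_
  obtain ⟨D, n, hD, hxD, hb⟩ := hasBasis_of_push g h x.1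
  obtain ⟨q, hqU, hxq⟩ := hD.exists_basicOpen_le (V := U) ⟨x.1, x.2⟩ hxD
  have hb' := (FreeOn.basic g (d := n) hD q hb).1
  have himg : U.ι ''ᵁ (U.ι ⁻¹ᵁ X.basicOpen q) = X.basicOpen q := by
    rw [Scheme.Hom.image_preimage_eq_opensRange_inf, Scheme.Opens.opensRange_ι, inf_eq_right.mpr hqU]
  refine ⟨U.ι ⁻¹ᵁ X.basicOpen q, n, ?_, hxq, Nat.pos_of_ne_zero fun hn => ?_,
    hasBasis_restrict g U _ (by rw [himg]; exact hb')⟩
  · rw [← U.ι.isAffineOpen_iff_of_isOpenImmersion, himg]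
    exact hD.basicOpen q
  · subst hn
    obtain ⟨x', hx'⟩ := g.surjective x.1
    letI := (g.app (X.basicOpen q)).hom.toAlgebra
    obtain ⟨b⟩ := (hb' : Nonempty (Module.Basis (Fin 0) Γ(X, X.basicOpen q) Γ(X', g ⁻¹ᵁ X.basicOpen q)))
    haveI : Subsingleton Γ(X', g ⁻¹ᵁ X.basicOpen q) := b.repr.toEquiv.subsingleton
    have hxq' : x' ∈ g ⁻¹ᵁ X.basicOpen q := by
      show g x' ∈ X.basicOpen q
      rw [hx']
      exact hxq
    have := congrArg (X'.presheaf.germ _ x' hxq') (Subsingleton.elim (0 : Γ(X', g ⁻¹ᵁ X.basicOpen q)) 1)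
    rw [map_zero, map_one] at this
    exact zero_ne_one this

end NormDescLib
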