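import Groth.Agent.NormDescLib.FreeRing
import Mathlib.LinearAlgebra.LinearIndependent.Lemmas
import Mathlib.RingTheory.Localization.Module

/-!
# Finite algebras over domains are free over a nonempty basic open
-/

set_option autoImplicit false
universe u

noncomputable section

namespace NormDescLib

theorem exists_hasBasis_domain {A B : Type u} [CommRing A] [IsDomain A] [CommRing B] [Algebra A B] [Module.Finite A B] :
    ∃ (c : A) (n : ℕ), c ≠ 0 ∧ ∀ (A' B' : Type u) (_ : CommRing A') (_ : CommRing B') (ρA : A →+* A') (ρB : B →+* B')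
      (i' : A' →+* B'), i'.comp ρA = ρB.comp (algebraMap A B) →
      (letI := ρA.toAlgebra; IsLocalization.Away c A') →
      (letI := ρB.toAlgebra; IsLocalization.Away (algebraMap A B c) B') →
      HasBasis i' n := by
  classical
  obtain ⟨m, g, hg⟩ := Module.Finite.exists_fin (R := A) (M := B)
  obtain ⟨I, hI, hmax⟩ := exists_maximal_linearIndepOn A g
  choose! a ha hmem using hmax
  let S := Finset.univ.filter fun j => j ∉ I
  let c := ∏ j ∈ S, a j
  have hc : c ≠ 0 := Finset.prod_ne_zero_iff.mpr fun j hj => ha j (Finset.mem_filter.mp hj).2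
  have hspan : ∀ j, c • g j ∈ Submodule.span A (g '' I) := fun j => by
    by_cases hj : j ∈ I
    · exact Submodule.smul_mem _ _ (Submodule.subset_span ⟨j, hj, rfl⟩)
    · have hjS : j ∈ S := Finset.mem_filter.mpr ⟨Finset.mem_univ _, hj⟩
      rw [show c = (∏ k ∈ S.erase j, a k) * a j from (Finset.prod_erase_mul S a hjS).symm, mul_smul]
      exact Submodule.smul_mem _ _ (hmem j hj)
  haveI : Fintype I := Fintype.ofFinite I
  refine ⟨c, Fintype.card I, hc, fun A' B' _ _ ρA ρB i' comm hA hB => ?_⟩
  letI := ρA.toAlgebra
  letI := ρB.toAlgebra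
  letI := i'.toAlgebra
  letI : Algebra A B' := (ρB.comp (algebraMap A B)).toAlgebra
  haveI : IsScalarTower A B B' := IsScalarTower.of_algebraMap_eq fun _ => rfl
  haveI : IsScalarTower A A' B' := IsScalarTower.of_algebraMap_eq fun x => (RingHom.congr_fun comm x).symm
  haveI : IsLocalization (Submonoid.powers c) A' := hA
  haveI : IsLocalization (Algebra.algebraMapSubmonoid B (Submonoid.powers c)) B' := by
    rw [Algebra.algebraMapSubmonoid_powers]
    exact hB
  let w : I → B' := fun j => algebraMap B B' (g j)
  have hli : LinearIndependent A' w := LinearIndependent.localization_localization A' (Submonoid.powers c) B' hI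
  refine ⟨((Module.Basis.mk hli ?_).reindex (Fintype.equivFin I))⟩
  rw [← span_eq_top_localization_localization A' (Submonoid.powers c) B' hg, Submodule.span_le]
  rintro _ ⟨_, ⟨j, rfl⟩, rfl⟩
  have h1 : algebraMap A A' c • algebraMap B B' (g j) ∈ Submodule.span A' (Set.range w) := by
    rw [algebraMap_smul, show c • algebraMap B B' (g j) = (IsScalarTower.toAlgHom A B B').toLinearMap (c • g j) from
      (map_smul (IsScalarTower.toAlgHom A B B').toLinearMap c (g j)).symm]
    refine Submodule.span_le_restrictScalars A A' _ ?_
    rw [show Set.range w = (IsScalarTower.toAlgHom A B B').toLinearMap '' (g '' I) by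
      rw [Set.image_image, Set.image_eq_range]; rfl, ← Submodule.map_span]
    exact Submodule.mem_map_of_mem (hspan j)
  exact (Submodule.smul_mem_iff_of_isUnit _ (IsLocalization.map_units A' (⟨c, 1, pow_one c⟩ : Submonoid.powers c))).mp h1

end NormDescLib
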