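import Groth.Agent.NormDescLib.DenseLocal
import Groth.Agent.NormDescLib.GenFreeRing

/-!
# The norm of a finite surjective morphism to a normal integral scheme
-/

set_option autoImplicit false
universe u

open CategoryTheory CategoryTheory.Limits AlgebraicGeometry TopologicalSpace Opposite

noncomputable section

namespace NormDescLib

variable {X Y : Scheme.{u}} (π : X ⟶ Y)

theorem exists_free_generic_integral [IsFinite π] [IsIntegral Y] :
    ∃ (G : Y.Opens) (n : ℕ) (z : Y), IsAffineOpen G ∧ z ∈ G ∧ HasBasis (π.app G).hom n := by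
  obtain ⟨U, hU, hξU, -⟩ := exists_isAffineOpen_mem_and_subset (x := genericPoint Y) (U := (⊤ : Y.Opens)) trivial
  haveI : Nonempty U := ⟨⟨_, hξU⟩⟩
  letI : Algebra Γ(Y, U) Γ(X, π ⁻¹ᵁ U) := (π.app U).hom.toAlgebra
  haveI : Module.Finite Γ(Y, U) Γ(X, π ⁻¹ᵁ U) := π.finite_app U hU
  obtain ⟨c, n, hc, hloc⟩ := exists_hasBasis_domain (A := Γ(Y, U)) (B := Γ(X, π ⁻¹ᵁ U))
  have hne : Y.basicOpen c ≠ ⊥ := fun h => hc (eq_zero_of_basicOpen_eq_bot c h)
  obtain ⟨z, hz⟩ : ∃ z, z ∈ Y.basicOpen c := by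
    by_contra h
    exact hne (eq_bot_iff.mpr fun y hy => (h ⟨y, hy⟩).elim)
  exact ⟨Y.basicOpen c, n, z, hU.basicOpen c, hz, hloc _ _ _ _ (Y.presheaf.map (homOfLE (Y.basicOpen_le c)).op).hom
    (X.presheaf.map (homOfLE (π.preimage_mono (Y.basicOpen_le c))).op).hom _
    (RingHom.ext fun a => app_rs (Y.basicOpen_le c) a)
    (hU.isLocalization_of_eq_basicOpen c (homOfLE (Y.basicOpen_le c)) rfl)
    ((hU.preimage π).isLocalization_of_eq_basicOpen _ (homOfLE (π.preimage_mono (Y.basicOpen_le c)))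
      (Scheme.preimage_basicOpen π c))⟩

theorem exists_norm_of_normal [IsFinite π] [Surjective π] [IsIntegral X] [IsIntegral Y]
    (hY : Pi1.IsNormalScheme Y) : ∃ d, Nrm.HasNorm π d := by
  obtain ⟨G, n, z, hG, hzG, hb⟩ := exists_free_generic_integral π
  have hn : 0 < n := by
    refine Nat.pos_of_ne_zero fun hn => ?_
    subst hn
    obtain ⟨x, rfl⟩ := π.surjective z
    letI := (π.app G).hom.toAlgebra
    obtain ⟨b⟩ := (hb : Nonempty (Module.Basis (Fin 0) Γ(Y, G) Γ(X, π ⁻¹ᵁ G)))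
    haveI : Subsingleton Γ(X, π ⁻¹ᵁ G) := b.repr.toEquiv.subsingleton
    haveI : Nonempty (π ⁻¹ᵁ G : X.Opens) := ⟨⟨x, hzG⟩⟩
    exact not_subsingleton Γ(X, π ⁻¹ᵁ G) ‹Subsingleton Γ(X, π ⁻¹ᵁ G)›
  have hFG : FreeOn π n G := ⟨hG, n, hn, dvd_rfl, hb⟩
  have hd : DenseFree π n := fun U y hy => by
    obtain ⟨w, hw1, hw2⟩ := nonempty_preirreducible_inter G.2 U.2 ⟨z, hzG⟩ ⟨y, hy⟩
    exact ⟨G, w, hFG, hw1, hw2⟩
  have hTF : SchDense π n := fun U s hs => by
    by_cases hU : ∃ y, y ∈ U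
    · obtain ⟨y, hy⟩ := hU
      obtain ⟨G', w, hG', hw, hle⟩ := hd.exists_le hy
      obtain ⟨x, rfl⟩ := π.surjective w
      haveI : Nonempty (π ⁻¹ᵁ G' : X.Opens) := ⟨⟨x, hw⟩⟩
      exact map_injective_of_isIntegral X (homOfLE (π.preimage_mono hle)) ((hs G' hG' hle).trans (map_zero _).symm)
    · have : π ⁻¹ᵁ U = ⊥ := eq_bot_iff.mpr fun x hx => (hU ⟨π x, hx⟩).elim
      haveI : Subsingleton Γ(X, π ⁻¹ᵁ U) := by
        rw [this]
        exact CommRingCat.subsingleton_of_isTerminal X.sheaf.isTerminalOfEmpty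
      exact Subsingleton.elim _ _
  refine ⟨n, hasNorm_of_local hn hd fun U s y hy => ?_⟩
  obtain ⟨V, hV, hyV, hVU⟩ := exists_isAffineOpen_mem_and_subset (x := y) (U := U) hy
  haveI : Nonempty (V : Y.Opens) := ⟨⟨y, hyV⟩⟩
  haveI := (hY y).2
  exact exists_local_normal hn hd hTF hV hyV hVU s

end NormDescLib
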