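import Groth.Agent.NormDescLib.Free
import Groth.Agent.ProjFormLib.Frame
import Groth.Agent.DetDegLib.Frame
import Groth.Agent.FinLFAnnLib.Main

/-!
# Finite morphisms with finite locally free direct image have norms
-/

set_option autoImplicit false
universe u

open CategoryTheory CategoryTheory.Limits AlgebraicGeometry TopologicalSpace Opposite

noncomputable section

namespace NormDescLib

variable {X Y : Scheme.{u}} (π : X ⟶ Y)

theorem hasBasis_of_push (h : FlatMod.IsFinLocFree ((Coh.push π).obj (Coh.structureModule X))) (y : Y) :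
    ∃ (D : Y.Opens) (n : ℕ), IsAffineOpen D ∧ y ∈ D ∧ HasBasis (π.app D).hom n := by
  let E := (Coh.push π).obj (Coh.structureModule X)
  haveI : Coh.IsQCoh E := FinLFAnn.isQCoh_of_isFinLocFree h
  obtain ⟨U, n, e, hyU, he⟩ := ProjFormLib.exists_frame h y
  obtain ⟨D, hD, hyD, hDU⟩ := exists_isAffineOpen_mem_and_subset (x := y) (U := U) hyU
  have he' := he.res hDU
  have hb := DetDegLib.frame_bijective hD (fun i => ProjFormLib.res E hDU (e i)) fun x hx => by
    have := he' x hx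
    exact this
  refine ⟨D, n, hD, hyD, ?_⟩
  letI := (π.app D).hom.toAlgebra
  let es : Fin n → Γ(X, π ⁻¹ᵁ D) := fun i => ProjFormLib.res E hDU (e i)
  let L : (Fin n → Γ(Y, D)) →ₗ[Γ(Y, D)] Γ(X, π ⁻¹ᵁ D) := Fintype.linearCombination Γ(Y, D) es
  have hL : Function.Bijective L := hb
  exact ⟨Module.Basis.ofEquivFun (LinearEquiv.ofBijective L hL).symm⟩

theorem exists_norm_of_push [IsFinite π] [Surjective π] [CompactSpace Y]
    (h : FlatMod.IsFinLocFree ((Coh.push π).obj (Coh.structureModule X))) : ∃ d, Nrm.HasNorm π d := by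
  refine exists_hasNorm π fun y => ?_
  obtain ⟨D, n, hD, hyD, hb⟩ := hasBasis_of_push π h y
  refine ⟨D, n, hD, hyD, Nat.pos_of_ne_zero fun hn => ?_, hb⟩
  subst hn
  obtain ⟨x, rfl⟩ := π.surjective y
  letI := (π.app D).hom.toAlgebra
  obtain ⟨b⟩ := (hb : Nonempty (Module.Basis (Fin 0) Γ(Y, D) Γ(X, π ⁻¹ᵁ D)))
  haveI : Subsingleton Γ(X, π ⁻¹ᵁ D) := b.repr.toEquiv.subsingleton
  exact not_subsingleton (X.presheaf.stalk x)
    (subsingleton_of_zero_eq_one (by
      rw [← map_zero (X.presheaf.germ (π ⁻¹ᵁ D) x hyD).hom, ← map_one (X.presheaf.germ (π ⁻¹ᵁ D) x hyD).hom,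
        Subsingleton.elim (0 : Γ(X, π ⁻¹ᵁ D)) 1]))

end NormDescLib
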