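import Groth.Agent.NormDescLib.IntegralCoeff
import Mathlib.RingTheory.Localization.AtPrime.Basic
import Mathlib.RingTheory.Localization.FractionRing
import Mathlib.RingTheory.Localization.Away.Basic

/-!
# Norms at normal points
-/

set_option autoImplicit false
universe u

noncomputable section

open Polynomial

namespace NormDescLib

/-- Elements of `A[1/c]` integral over `A` have denominators outside a prime with integrally closed
local ring. -/
theorem exists_denom_of_isIntegral {A A' : Type u} [CommRing A] [IsDomain A] [CommRing A'] [Algebra A A'] {c : A}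
    (hc : c ≠ 0) [IsLocalization.Away c A'] (p : Ideal A) [p.IsPrime]
    [IsIntegrallyClosed (Localization.AtPrime p)] {a' : A'} (ha : IsIntegral A a') :
    ∃ d, d ∉ p ∧ ∃ a : A, algebraMap A A' a = algebraMap A A' d * a' := by
  let R := Localization.AtPrime p
  haveI : IsDomain R := IsLocalization.isDomain_of_atPrime R p
  let K := FractionRing R
  have hinj : Function.Injective (algebraMap A R) :=
    IsLocalization.injective R p.primeCompl_le_nonZeroDivisors
  have hu : IsUnit (algebraMap A K c) := by
    refine IsUnit.mk0 _ fun h => hc (hinj ?_)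
    rw [map_zero]
    exact IsFractionRing.injective R K (h.trans (map_zero _).symm)
  let ψ : A' →+* K := IsLocalization.Away.lift c hu
  let ψa : A' →ₐ[A] K := { ψ with commutes' := fun a => IsLocalization.Away.lift_eq c hu a }
  obtain ⟨w, hw⟩ := IsIntegrallyClosed.isIntegral_iff.mp ((ha.map ψa).tower_top (A := R))
  obtain ⟨⟨a, d⟩, had⟩ := IsLocalization.surj p.primeCompl w
  obtain ⟨⟨x, ⟨_, k, rfl⟩⟩, hx⟩ := IsLocalization.surj (Submonoid.powers c) a'
  refine ⟨d, d.2, a, ?_⟩
  have h1 := congrArg ψa hx
  rw [map_mul, AlgHom.commutes, AlgHom.commutes] at h1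
  have h2 : algebraMap A K a = algebraMap A K d * ψa a' := by
    rw [← hw, IsScalarTower.algebraMap_apply A R K, IsScalarTower.algebraMap_apply A R K, ← map_mul, mul_comm, ← had]
  have h3 : algebraMap A K (a * c ^ k) = algebraMap A K (d * x) := by
    rw [map_mul, map_mul, h2, mul_assoc]
    exact congrArg _ h1
  have hinjK : Function.Injective (algebraMap A K) := (IsFractionRing.injective R K).comp hinj
  have h4 := congrArg (algebraMap A A') (hinjK h3)
  rw [map_mul, map_mul, ← hx, ← mul_assoc] at h4
  exact (IsLocalization.map_units A' (⟨c ^ k, k, rfl⟩ : Submonoid.powers c)).mul_left_injective h4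

/-- At a prime with integrally closed local ring the norm is, up to a denominator, a multiple. -/
theorem exists_norm_mul {A A' B B' : Type u} [CommRing A] [IsDomain A] [CommRing A'] [CommRing B] [CommRing B']
    {i : A →+* B} {i' : A' →+* B'} (ρA : A →+* A') (ρB : B →+* B') (comm : i'.comp ρA = ρB.comp i)
    (hi : i.Finite) {c : A} (hc : c ≠ 0) (hA : letI := ρA.toAlgebra; IsLocalization.Away c A') {n : ℕ} (hn : 0 < n)
    (h : HasBasis i' n) (p : Ideal A) [p.IsPrime] [IsIntegrallyClosed (Localization.AtPrime p)] (s : B) :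
    ∃ d, d ∉ p ∧ ∃ (a : A) (q : B), ρA a = ρA d * normR i' (ρB s) ∧ ρB (i a) = ρB (s * q) := by
  letI := i.toAlgebra
  letI := ρA.toAlgebra
  letI := i'.toAlgebra
  letI : Algebra A B' := (ρB.comp i).toAlgebra
  haveI : IsScalarTower A A' B' := IsScalarTower.of_algebraMap_eq fun x => (RingHom.congr_fun comm x).symm
  haveI : Module.Finite A B := hi
  haveI : IsLocalization.Away c A' := hA
  haveI : IsDomain A' := IsLocalization.isDomain_of_le_nonZeroDivisors A'
    (powers_le_nonZeroDivisors_of_noZeroDivisors hc)
  obtain ⟨b⟩ := (h : Nonempty (Module.Basis (Fin n) A' B'))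
  obtain ⟨g, hg, hgs⟩ := IsIntegral.of_finite A s
  let ρ : B →ₐ[A] B' := { ρB with commutes' := fun _ => rfl }
  let μ : B →ₐ[A] Matrix (Fin n) (Fin n) A' := ((Algebra.leftMulMatrix b).restrictScalars A).comp ρ
  have hM : aeval (μ s) g = 0 := by
    rw [aeval_algHom_apply, show aeval s g = 0 from hgs, map_zero]
  let P := (μ s).charpoly
  choose d hd a ha using fun k : ℕ =>
    exists_denom_of_isIntegral hc p (isIntegral_charpoly_coeff (μ s) g hg hM k)
  let δ := ∏ k ∈ Finset.range (n + 1), d k
  have hδ : δ ∉ p := fun hmem => by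
    obtain ⟨k, -, hk⟩ := Ideal.IsPrime.prod_mem_iff.mp hmem
    exact hd k hk
  have hlift : ∀ k, ∃ z : A, algebraMap A A' z = algebraMap A A' δ * P.coeff k := fun k => by
    by_cases hk : k ∈ Finset.range (n + 1)
    · refine ⟨(∏ l ∈ (Finset.range (n + 1)).erase k, d l) * a k, ?_⟩
      rw [map_mul, ha k, ← mul_assoc, ← map_mul, Finset.prod_erase_mul _ _ hk]
    · refine ⟨0, ?_⟩
      rw [Finset.mem_range, not_lt] at hk
      rw [map_zero, P.coeff_eq_zero_of_natDegree_lt, mul_zero]
      rw [show P.natDegree = n by rw [Matrix.charpoly_natDegree_eq_dim, Fintype.card_fin]]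
      omega
  choose z hz using hlift
  refine ⟨δ, hδ, (-1) ^ n * z 0, -((-1) ^ n : B) * ∑ k ∈ Finset.range n, i (z (k + 1)) * s ^ k, ?_, ?_⟩
  · show algebraMap A A' _ = algebraMap A A' δ * Algebra.norm A' (ρB s)
    rw [Algebra.norm_eq_matrix_det b, Matrix.det_eq_sign_charpoly_coeff, Fintype.card_fin, map_mul, hz 0,
      map_pow, map_neg, map_one, mul_left_comm]
    rfl
  · have hCH : aeval (ρB s) P = 0 := by
      apply Algebra.leftMulMatrix_injective b
      rw [map_zero, ← aeval_algHom_apply]
      exact Matrix.aeval_self_charpoly _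
    rw [aeval_eq_sum_range, show P.natDegree = n by rw [Matrix.charpoly_natDegree_eq_dim, Fintype.card_fin],
      Finset.sum_range_succ', pow_zero] at hCH
    have hz' : ∀ k, ρB (i (z k)) = algebraMap A' B' (algebraMap A A' δ) * algebraMap A' B' (P.coeff k) := fun k => by
      rw [← map_mul, ← hz k]
      exact (RingHom.congr_fun comm (z k)).symm
    have key : ρB (i (z 0)) + ρB s * ρB (∑ k ∈ Finset.range n, i (z (k + 1)) * s ^ k) = 0 := by
      rw [map_sum, Finset.mul_sum, hz' 0]
      calc _ = algebraMap A' B' (algebraMap A A' δ) *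
            ((∑ k ∈ Finset.range n, P.coeff (k + 1) • ρB s ^ (k + 1)) + P.coeff 0 • 1) := by
            rw [mul_add, add_comm, Finset.mul_sum]
            congr 1
            · refine Finset.sum_congr rfl fun k _ => ?_
              rw [map_mul, hz', map_pow, Algebra.smul_def, pow_succ]
              ring
            · rw [Algebra.smul_def, mul_one]
        _ = 0 := by rw [hCH, mul_zero]
    simp only [map_mul, map_pow, map_neg, map_one]
    rw [eq_neg_of_add_eq_zero_left key]
    ring

end NormDescLib
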