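import Groth.Agent.NormDescLib.Free
import Groth.Agent.NormDescLib.NormalPoint
import Groth.Prelude.Def_Pi1
import Mathlib.AlgebraicGeometry.Properties
import Mathlib.AlgebraicGeometry.Noetherian

/-!
# Norms on reduced schemes from norms on a dense open
-/

set_option autoImplicit false
universe u

open CategoryTheory CategoryTheory.Limits AlgebraicGeometry TopologicalSpace Opposite

noncomputable section

namespace NormDescLib

variable {X Y : Scheme.{u}} (π : X ⟶ Y) {R : ℕ}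

/-- The norm over a free open. -/
def nrmF {G : Y.Opens} (hG : FreeOn π R G) : Γ(X, π ⁻¹ᵁ G) →* Γ(Y, G) :=
  (powMonoidHom (R / hG.2.choose)).comp (normR (π.app G).hom)

variable {π}

theorem nrmF_basic [IsAffineHom π] {G : Y.Opens} (hG : FreeOn π R G) (f : Γ(Y, G))
    (hf : FreeOn π R (Y.basicOpen f)) (s : Γ(X, π ⁻¹ᵁ G)) :
    rs (Y.basicOpen_le f) (nrmF π hG s) = nrmF π hf (rs (π.preimage_mono (Y.basicOpen_le f)) s) := by
  obtain ⟨hn, hnd, h⟩ := hG.2.choose_spec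
  obtain ⟨hm, hmd, h'⟩ := hf.2.choose_spec
  obtain ⟨h1, h2⟩ := FreeOn.basic π (d := R) hG.1 f h
  rcases subsingleton_or_nontrivial Γ(Y, Y.basicOpen f) with hs | hs
  · exact Subsingleton.elim _ _
  change rs _ (normR (π.app G).hom s ^ _) = normR _ _ ^ _
  rw [rs_pow, h2 s, hasBasis_unique h' h1]

theorem nrmF_app {G : Y.Opens} (hG : FreeOn π R G) (g : Γ(Y, G)) : nrmF π hG (π.app G g) = g ^ R := by
  obtain ⟨hn, hnd, h⟩ := hG.2.choose_spec
  change normR (π.app G).hom _ ^ _ = _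
  rw [normR_app h, ← pow_mul, Nat.mul_div_cancel' hnd]

theorem FreeOn.basicOpen [IsAffineHom π] {G : Y.Opens} (hG : FreeOn π R G) (f : Γ(Y, G)) :
    FreeOn π R (Y.basicOpen f) := by
  obtain ⟨n, hn, hnd, h⟩ := hG.2
  exact ⟨hG.1.basicOpen f, n, hn, hnd, (FreeOn.basic π (d := R) hG.1 f h).1⟩

theorem eq_of_germ {U : Y.Opens} {a b : Γ(Y, U)}
    (h : ∀ y (hy : y ∈ U), Y.presheaf.germ U y hy a = Y.presheaf.germ U y hy b) : a = b :=
  TopCat.Presheaf.section_ext Y.sheaf U a b h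

theorem nrmF_compat [IsAffineHom π] {U D E : Y.Opens} (hD : FreeOn π R D) (hE : FreeOn π R E)
    (hDU : D ≤ U) (hEU : E ≤ U) (s : Γ(X, π ⁻¹ᵁ U)) {V : Y.Opens} (hVD : V ≤ D) (hVE : V ≤ E) :
    rs hVD (nrmF π hD (rs (π.preimage_mono hDU) s)) = rs hVE (nrmF π hE (rs (π.preimage_mono hEU) s)) := by
  refine eq_of_germ fun y hy => ?_
  obtain ⟨f, g, hfg, hyf⟩ := exists_basicOpen_le_affine_inter hD.1 hE.1 y ⟨hVD hy, hVE hy⟩
  have key : ∀ {W W' : Y.Opens} (e : W = W') (hW : FreeOn π R W) (hW' : FreeOn π R W') (h : W ≤ U) (h' : W' ≤ U)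
      (hyW : y ∈ W) (hyW' : y ∈ W'),
      Y.presheaf.germ W y hyW (nrmF π hW (rs (π.preimage_mono h) s)) =
        Y.presheaf.germ W' y hyW' (nrmF π hW' (rs (π.preimage_mono h') s)) := by
    intro W W' e _ _ _ _ _ _
    subst e
    rfl
  have h1 := nrmF_basic hD f (hD.basicOpen f) (rs (π.preimage_mono hDU) s)
  have h2 := nrmF_basic hE g (hE.basicOpen g) (rs (π.preimage_mono hEU) s)
  rw [rs_rs] at h1 h2
  have hk := key hfg (hD.basicOpen f) (hE.basicOpen g) ((Y.basicOpen_le f).trans hDU)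
    ((Y.basicOpen_le g).trans hEU) hyf (hfg ▸ hyf)
  rw [← h1, ← h2] at hk
  simp only [rs, TopCat.Presheaf.germ_res_apply] at hk ⊢
  exact hk

variable (π) in
/-- `t` is the norm of `s` on every free open. -/
def IsN (R : ℕ) {U : Y.Opens} (s : Γ(X, π ⁻¹ᵁ U)) (t : Γ(Y, U)) : Prop :=
  ∀ G (hG : FreeOn π R G) (h : G ≤ U), rs h t = nrmF π hG (rs (π.preimage_mono h) s)

theorem IsN.res {U V : Y.Opens} (h : V ≤ U) {s : Γ(X, π ⁻¹ᵁ U)} {t : Γ(Y, U)} (ht : IsN π R s t) :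
    IsN π R (rs (π.preimage_mono h) s) (rs h t) := fun G hG hGV => by
  rw [rs_rs, rs_rs]
  exact ht G hG (hGV.trans h)

variable (π) in
/-- The free opens are dense. -/
def DenseFree (R : ℕ) : Prop := ∀ (U : Y.Opens) (y : Y), y ∈ U → ∃ G z, FreeOn π R G ∧ z ∈ G ∧ z ∈ U

theorem DenseFree.exists_le [IsAffineHom π] (hd : DenseFree π R) {U : Y.Opens} {y : Y} (hy : y ∈ U) :
    ∃ G z, FreeOn π R G ∧ z ∈ G ∧ G ≤ U := by
  obtain ⟨G, z, hG, hzG, hzU⟩ := hd U y hy
  obtain ⟨f, hf, hzf⟩ := hG.1.exists_basicOpen_le (V := U) ⟨z, hzU⟩ hzG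
  exact ⟨_, z, hG.basicOpen f, hzf, hf⟩

theorem IsN.unique [IsAffineHom π] [IsReduced Y] (hd : DenseFree π R) {U : Y.Opens} {s : Γ(X, π ⁻¹ᵁ U)}
    {t t' : Γ(Y, U)} (ht : IsN π R s t) (ht' : IsN π R s t') : t = t' := by
  refine sub_eq_zero.mp (eq_zero_of_basicOpen_eq_bot _ (eq_bot_iff.mpr fun y hy => ?_))
  exfalso
  obtain ⟨G, z, hG, hzG, hle⟩ := hd.exists_le hy
  have hGU : G ≤ U := hle.trans (Y.basicOpen_le _)
  have hu := (Y.mem_basicOpen (t - t') z (hGU hzG)).mp (hle hzG)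
  rw [← TopCat.Presheaf.germ_res_apply Y.presheaf (homOfLE hGU) z hzG, map_sub,
    show Y.presheaf.map (homOfLE hGU).op t = _ from ht G hG hGU,
    show Y.presheaf.map (homOfLE hGU).op t' = _ from ht' G hG hGU, sub_self, map_zero] at hu
  exact not_isUnit_zero hu

/-- A norm from local norms which divide. -/
theorem hasNorm_of_local [IsAffineHom π] [IsReduced Y] (hR : 1 ≤ R) (hd : DenseFree π R)
    (hloc : ∀ (U : Y.Opens) (s : Γ(X, π ⁻¹ᵁ U)) (y : Y), y ∈ U → ∃ (D : Y.Opens) (h : D ≤ U), y ∈ D ∧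
      ∃ (t : Γ(Y, D)) (q : Γ(X, π ⁻¹ᵁ D)), IsN π R (rs (π.preimage_mono h) s) t ∧
        π.app D t = rs (π.preimage_mono h) s * q) :
    Nrm.HasNorm π R := by
  have hex : ∀ (U : Y.Opens) (s : Γ(X, π ⁻¹ᵁ U)), ∃ t, IsN π R s t := by
    intro U s
    choose D hD hyD t q ht _ using fun y : U => hloc U s y.1 y.2
    obtain ⟨T, hT, -⟩ := Y.sheaf.existsUnique_gluing' D U (fun y => homOfLE (hD y))
      (fun y hy => Opens.mem_iSup.mpr ⟨⟨y, hy⟩, hyD _⟩) t fun a b => by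
        refine IsN.unique hd (s := rs (π.preimage_mono (inf_le_left.trans (hD a))) s) ?_ ?_
        · have := (ht a).res (inf_le_left : D a ⊓ D b ≤ D a)
          rw [rs_rs] at this
          exact this
        · have := (ht b).res (inf_le_right : D a ⊓ D b ≤ D b)
          rw [rs_rs] at this
          exact this
    refine ⟨T, fun G hG hGU => eq_of_germ fun z hz => ?_⟩
    obtain ⟨f, hf, hzf⟩ := hG.1.exists_basicOpen_le (V := D ⟨z, hGU hz⟩) ⟨z, hyD _⟩ hz
    have h1 := ht ⟨z, hGU hz⟩ _ (hG.basicOpen f) hf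
    rw [← show rs (hD ⟨z, hGU hz⟩) T = t ⟨z, hGU hz⟩ from hT _, rs_rs, rs_rs] at h1
    have h2 := nrmF_basic hG f (hG.basicOpen f) (rs (π.preimage_mono hGU) s)
    rw [rs_rs] at h2
    have h3 := congrArg (Y.presheaf.germ _ z hzf) (h1.trans h2.symm)
    simp only [rs, TopCat.Presheaf.germ_res_apply] at h3 ⊢
    exact h3
  choose N hN using hex
  refine ⟨{
    one_le := hR
    norm := fun U =>
      { toFun := N U
        map_one' := IsN.unique hd (hN U 1) fun G hG h => by rw [rs_one, rs_one, map_one]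
        map_mul' := fun a b => IsN.unique hd (hN U (a * b)) fun G hG h => by
          rw [rs_mul, rs_mul, map_mul, hN U a G hG h, hN U b G hG h] }
    norm_res := fun {U V} i s => IsN.unique hd ((hN U s).res (leOfHom i)) (hN V _)
    norm_app := fun U g => IsN.unique hd (hN U _) fun G hG h => by rw [rs_pow, ← app_rs, nrmF_app]
    norm_mem := fun U s x hx hs => ?_ }⟩
  obtain ⟨D, hD, hxD, t, q, ht, hq⟩ := hloc U s _ hx
  by_contra hu
  have hu' : IsUnit (Y.presheaf.germ U (π x) hx (N U s)) := by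
    by_contra h
    exact hu ((IsLocalRing.mem_maximalIdeal _).mpr h)
  rw [← TopCat.Presheaf.germ_res_apply Y.presheaf (homOfLE hD) (π x) hxD,
    show Y.presheaf.map (homOfLE hD).op (N U s) = t from IsN.unique hd ((hN U s).res hD) ht] at hu'
  have h2 := hu'.map (π.stalkMap x).hom
  rw [Scheme.Hom.germ_stalkMap_apply, hq, map_mul] at h2
  have h3 := isUnit_of_mul_isUnit_left h2
  simp only [rs, TopCat.Presheaf.germ_res_apply] at h3
  exact (IsLocalRing.mem_maximalIdeal _).mp hs h3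

end NormDescLib
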