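import Groth.Agent.NormDescLib.DenseLocal
import Groth.Agent.NormDescLib.FreeLocal
import Groth.Agent.Sweep9Lib.NoethPts
import Mathlib.RingTheory.KrullDimension.Zero
import Mathlib.Topology.Sober

/-!
# Generic freeness over a reduced noetherian scheme, and integral neighbourhoods
-/

set_option autoImplicit false
universe u

open CategoryTheory CategoryTheory.Limits AlgebraicGeometry TopologicalSpace Opposite

noncomputable section

namespace NormDescLib

variable {X Y : Scheme.{u}} (π : X ⟶ Y)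

theorem nontrivial_sections {U : Y.Opens} {y : Y} (hy : y ∈ U) : Nontrivial Γ(Y, U) :=
  (Y.presheaf.germ U y hy).hom.domain_nontrivial

theorem pos_of_hasBasis [Surjective π] {D : Y.Opens} {y : Y} (hy : y ∈ D) {n : ℕ}
    (h : HasBasis (π.app D).hom n) : 0 < n := by
  refine Nat.pos_of_ne_zero fun hn => ?_
  subst hn
  obtain ⟨x, rfl⟩ := π.surjective y
  haveI := nontrivial_sections (U := π ⁻¹ᵁ D) (y := x) hy
  letI := (π.app D).hom.toAlgebra
  obtain ⟨b⟩ := (h : Nonempty (Module.Basis (Fin 0) Γ(Y, D) Γ(X, π ⁻¹ᵁ D)))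
  haveI : Subsingleton Γ(X, π ⁻¹ᵁ D) := b.repr.toEquiv.subsingleton
  exact not_subsingleton Γ(X, π ⁻¹ᵁ D) this

/-- A generic point of a reduced noetherian scheme has a free neighbourhood. -/
theorem exists_free_of_generic [IsFinite π] [IsReduced Y] [IsLocallyNoetherian Y] (ξ : Y)
    (hξ : ∀ z, z ⤳ ξ → z = ξ) : ∃ (G : Y.Opens) (n : ℕ), IsAffineOpen G ∧ ξ ∈ G ∧ HasBasis (π.app G).hom n := by
  obtain ⟨U, hU, hξU, -⟩ := exists_isAffineOpen_mem_and_subset (x := ξ) (U := (⊤ : Y.Opens)) trivial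
  have hV := hU.preimage π
  haveI := IsLocallyNoetherian.component_noetherian (X := Y) ⟨U, hU⟩
  letI : Algebra Γ(Y, U) Γ(X, π ⁻¹ᵁ U) := (π.app U).hom.toAlgebra
  haveI : Module.Finite Γ(Y, U) Γ(X, π ⁻¹ᵁ U) := π.finite_app U hU
  haveI : Module.FinitePresentation Γ(Y, U) Γ(X, π ⁻¹ᵁ U) := Module.finitePresentation_of_finite _ _
  let q := hU.primeIdealOf ⟨ξ, hξU⟩
  have hq : q.asIdeal ∈ minimalPrimes Γ(Y, U) := by
    refine ⟨⟨q.isPrime, bot_le⟩, fun I hI hle => ?_⟩
    let q' : PrimeSpectrum Γ(Y, U) := ⟨I, hI.1⟩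
    have h1 : q' ⤳ q := (PrimeSpectrum.le_iff_specializes q' q).mp hle
    have h2 := hξ _ ((h1.map hU.fromSpec.continuous).trans (specializes_of_eq (hU.fromSpec_primeIdealOf ⟨ξ, hξU⟩)))
    have h3 : q' = q := hU.fromSpec.isOpenEmbedding.injective (h2.trans (hU.fromSpec_primeIdealOf ⟨ξ, hξU⟩).symm)
    exact (congrArg PrimeSpectrum.asIdeal h3).ge
  haveI : Ring.KrullDimLE 0 (Localization.AtPrime q.asIdeal) := .of_isLocalization _ hq _
  haveI : IsReduced Y := inferInstance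
  letI : Field (Localization.AtPrime q.asIdeal) := Ring.KrullDimLE.isField_of_isReduced.toField
  obtain ⟨r, hr, hloc⟩ := exists_hasBasis_away_of_free (A := Γ(Y, U)) (B := Γ(X, π ⁻¹ᵁ U)) q
  refine ⟨Y.basicOpen r, _, hU.basicOpen r, ?_, hloc _ _ _ _ (Y.presheaf.map (homOfLE (Y.basicOpen_le r)).op).hom
    (X.presheaf.map (homOfLE (π.preimage_mono (Y.basicOpen_le r))).op).hom _
    (RingHom.ext fun a => app_rs (Y.basicOpen_le r) a)
    (hU.isLocalization_of_eq_basicOpen r (homOfLE (Y.basicOpen_le r)) rfl)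
    (hV.isLocalization_of_eq_basicOpen _ (homOfLE (π.preimage_mono (Y.basicOpen_le r)))
      (Scheme.preimage_basicOpen π r))⟩
  have hmem : q ∈ hU.fromSpec ⁻¹ᵁ Y.basicOpen r := by
    rw [hU.fromSpec_preimage_basicOpen]
    exact hr
  have h : hU.fromSpec q ∈ Y.basicOpen r := hmem
  rwa [hU.fromSpec_primeIdealOf ⟨ξ, hξU⟩] at h

/-- Free opens are dense, for a suitable degree. -/
theorem exists_denseFree [IsFinite π] [Surjective π] [IsReduced Y] [IsNoetherian Y] :
    ∃ R, 1 ≤ R ∧ DenseFree π R := by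
  classical
  have hgp : ∀ C ∈ irreducibleComponents Y, ∃ ξ : Y, closure {ξ} = C ∧ ∀ z, z ⤳ ξ → z = ξ := by
    intro C hC
    have hcl := isClosed_of_mem_irreducibleComponents C hC
    have hg := IsIrreducible.isGenericPoint_genericPoint hC.1 hcl
    refine ⟨hC.1.genericPoint, hg.def, fun z hz => ?_⟩
    have hsub : C ⊆ closure {z} := by
      rw [← hg.def]
      exact closure_minimal (Set.singleton_subset_iff.mpr (specializes_iff_mem_closure.mp hz)) isClosed_closure
    have heq : closure {z} = C := (hC.2 isIrreducible_singleton.closure hsub).antisymm hsub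
    exact IsGenericPoint.eq (S := C) heq hg
  choose ξ hξcl hξ using hgp
  choose G n hG hξG hb using fun (C : Set Y) (hC : C ∈ irreducibleComponents Y) =>
    exists_free_of_generic π (ξ C hC) (hξ C hC)
  haveI := (TopologicalSpace.NoetherianSpace.finite_irreducibleComponents (α := Y)).to_subtype
  haveI := Fintype.ofFinite (irreducibleComponents Y)
  have hn : ∀ C hC, 0 < n C hC := fun C hC => pos_of_hasBasis π (hξG C hC) (hb C hC)
  refine ⟨∏ C : ↥(irreducibleComponents Y), n C.1 C.2, Finset.prod_pos fun (C : ↥(irreducibleComponents Y)) _ => hn C.1 C.2, fun U y hy => ?_⟩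
  have hC := irreducibleComponent_mem_irreducibleComponents y
  refine ⟨G _ hC, ξ _ hC, ⟨hG _ hC, n _ hC, hn _ hC,
    Finset.dvd_prod_of_mem (fun C : irreducibleComponents Y => n C.1 C.2) (Finset.mem_univ ⟨_, hC⟩), hb _ hC⟩,
    hξG _ hC, ?_⟩
  refine (specializes_iff_mem_closure.mpr ?_).mem_open U.2 hy
  rw [hξcl]
  exact mem_irreducibleComponent

variable {π}

/-- A free algebra meets the free opens in its rank. -/
theorem freeOn_of_hasBasis [IsFinite π] [Surjective π] {R : ℕ} (hd : DenseFree π R) {D : Y.Opens}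
    (hD : IsAffineOpen D) {y : Y} (hy : y ∈ D) {n : ℕ} (h : HasBasis (π.app D).hom n) : FreeOn π R D := by
  obtain ⟨G, z, hG, hzG, hGD⟩ := hd.exists_le hy
  obtain ⟨f, g, hfg, hzf⟩ := exists_basicOpen_le_affine_inter hD hG.1 z ⟨hGD hzG, hzG⟩
  obtain ⟨m, hm, hmR, hb⟩ := hG.2
  have h1 := (FreeOn.basic π (d := R) hD f h).1
  have h2 : HasBasis (π.app (Y.basicOpen f)).hom m := hfg ▸ (FreeOn.basic π (d := R) hG.1 g hb).1
  haveI := nontrivial_sections hzf
  exact ⟨hD, n, hasBasis_unique h2 h1 ▸ hm, hasBasis_unique h2 h1 ▸ hmR, h⟩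

theorem exists_local_point [IsFinite π] [Surjective π] [IsReduced Y] [IsLocallyNoetherian Y] {R : ℕ} (hR : 1 ≤ R)
    (hd : DenseFree π R) (hTF : SchDense π R) (U : Y.Opens) (s : Γ(X, π ⁻¹ᵁ U)) (y : Y) (hy : y ∈ U)
    (h : (IsDomain (Y.presheaf.stalk y) ∧ IsIntegrallyClosed (Y.presheaf.stalk y)) ∨
      ∃ (D : Y.Opens) (n : ℕ), IsAffineOpen D ∧ y ∈ D ∧ HasBasis (π.app D).hom n) :
    ∃ (D : Y.Opens) (h : D ≤ U), y ∈ D ∧ ∃ (t : Γ(Y, D)) (q : Γ(X, π ⁻¹ᵁ D)),
      IsN π R (rs (π.preimage_mono h) s) t ∧ π.app D t = rs (π.preimage_mono h) s * q := by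
  rcases h with ⟨hdom, hic⟩ | ⟨D, n, hD, hyD, hb⟩
  · obtain ⟨W, hyW, hi⟩ := Groth.Agent.Sweep9Lib.exists_irreducible_nhd Y y
      (by rw [nilradical_eq_zero]; exact Ideal.isPrime_bot)
    obtain ⟨V, hV, hyV, hVle⟩ := exists_isAffineOpen_mem_and_subset (x := y) (U := U ⊓ W) ⟨hy, hyW⟩
    have hirr : IsPreirreducible (V : Set Y) := hi.2.open_subset V.2 (fun z hz => (hVle hz).2)
    haveI : IrreducibleSpace (V : Scheme.{u}) :=
      { toPreirreducibleSpace := Subtype.preirreducibleSpace hirr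
        toNonempty := ⟨⟨y, hyV⟩⟩ }
    haveI : IsIntegral (V : Scheme.{u}) := isIntegral_of_irreducibleSpace_of_isReduced _
    haveI : IsDomain Γ(Y, V) := V.topIso.symm.commRingCatIsoToRingEquiv.toMulEquiv.isDomain _
    haveI := hic
    exact exists_local_normal hR hd hTF hV hyV (fun z hz => (hVle hz).1) s
  · obtain ⟨f, hf, hyf⟩ := hD.exists_basicOpen_le (V := U) ⟨y, hy⟩ hyD
    exact ⟨_, hf, hyf, exists_local_free hR s
      (freeOn_of_hasBasis hd (hD.basicOpen f) hyf (FreeOn.basic π (d := R) hD f hb).1) hf⟩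

theorem hasNorm_of_normal_or_free [IsFinite π] [Surjective π] [IsReduced Y] [IsLocallyNoetherian Y] {R : ℕ} (hR : 1 ≤ R)
    (hd : DenseFree π R) (hTF : SchDense π R)
    (h : ∀ y, (IsDomain (Y.presheaf.stalk y) ∧ IsIntegrallyClosed (Y.presheaf.stalk y)) ∨
      ∃ (D : Y.Opens) (n : ℕ), IsAffineOpen D ∧ y ∈ D ∧ HasBasis (π.app D).hom n) : Nrm.HasNorm π R :=
  hasNorm_of_local hR hd fun U s y hy => exists_local_point hR hd hTF U s y hy (h y)

end NormDescLib
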