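import Groth.Agent.NormDescLib.Dense

/-!
# Local norms at free and at normal points
-/

set_option autoImplicit false
universe u

open CategoryTheory CategoryTheory.Limits AlgebraicGeometry TopologicalSpace Opposite

noncomputable section

namespace NormDescLib

/-- An element divides its norm. -/
theorem exists_normR_eq_mul {A B : Type u} [CommRing A] [CommRing B] {i : A →+* B} {n : ℕ} (hn : 0 < n)
    (h : HasBasis i n) (s : B) : ∃ q : B, i (normR i s) = s * q := by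
  letI := i.toAlgebra
  obtain ⟨b⟩ := (h : Nonempty (Module.Basis (Fin n) A B))
  let M := Algebra.leftMulMatrix b s
  have hCH : Polynomial.aeval s M.charpoly = 0 := by
    apply Algebra.leftMulMatrix_injective b
    rw [map_zero, ← Polynomial.aeval_algHom_apply]
    exact Matrix.aeval_self_charpoly _
  rw [← Polynomial.X_mul_divX_add M.charpoly] at hCH
  rw [map_add, map_mul, Polynomial.aeval_X, Polynomial.aeval_C] at hCH
  refine ⟨(-1) ^ n * -(Polynomial.aeval s M.charpoly.divX), ?_⟩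
  show algebraMap A B (Algebra.norm A s) = _
  rw [Algebra.norm_eq_matrix_det b, Matrix.det_eq_sign_charpoly_coeff, Fintype.card_fin, map_mul, map_pow,
    map_neg, map_one, eq_neg_of_add_eq_zero_right hCH]
  ring

variable {X Y : Scheme.{u}} {π : X ⟶ Y} {R : ℕ}

theorem exists_local_free [IsAffineHom π] (hR : 1 ≤ R) {U : Y.Opens} (s : Γ(X, π ⁻¹ᵁ U)) {D : Y.Opens}
    (hD : FreeOn π R D) (h : D ≤ U) :
    ∃ (t : Γ(Y, D)) (q : Γ(X, π ⁻¹ᵁ D)), IsN π R (rs (π.preimage_mono h) s) t ∧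
      π.app D t = rs (π.preimage_mono h) s * q := by
  let s' := rs (π.preimage_mono h) s
  refine ⟨nrmF π hD s', ?_⟩
  obtain ⟨hn, hnd, hb⟩ := hD.2.choose_spec
  obtain ⟨q, hq⟩ := exists_normR_eq_mul hn hb s'
  obtain ⟨m, hm⟩ : ∃ m, R / hD.2.choose = m + 1 :=
    ⟨R / hD.2.choose - 1, by have := Nat.div_pos (Nat.le_of_dvd hR hnd) hn; omega⟩
  refine ⟨q * π.app D (normR (π.app D).hom s' ^ m), fun G hG hGD => ?_, ?_⟩
  · have e := nrmF_compat hG hD hGD le_rfl s' (V := G) le_rfl hGD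
    rw [rs_refl, rs_refl] at e
    exact e.symm
  · show π.app D (normR (π.app D).hom s' ^ _) = _
    rw [hm, pow_succ, map_mul, ← mul_assoc]
    exact (congrArg ((π.app D) (normR (π.app D).hom s' ^ m) * ·) hq).trans (by ring)

theorem isPreirreducible_of_affine {V : Y.Opens} (hV : IsAffineOpen V) [IsDomain Γ(Y, V)] :
    IsPreirreducible (V : Set Y) := by
  rw [← hV.range_fromSpec, ← Set.image_univ]
  exact (IrreducibleSpace.isIrreducible_univ (PrimeSpectrum Γ(Y, V))).2.image _ hV.fromSpec.continuous.continuousOn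

/-- On a reduced irreducible open, functions vanishing on a nonempty open vanish. -/
theorem eq_zero_of_rs [IsReduced Y] {V : Y.Opens} (hV : IsPreirreducible (V : Set Y)) {W W' : Y.Opens}
    (hW : W ≤ V) (h' : W' ≤ W) (hne : ∃ z, z ∈ W') {x : Γ(Y, W)} (hx : rs h' x = 0) : x = 0 := by
  refine eq_zero_of_basicOpen_eq_bot _ (eq_bot_iff.mpr fun y hy => ?_)
  exfalso
  obtain ⟨z, hz⟩ := hne
  obtain ⟨w, -, hw, hw'⟩ := hV _ _ (Y.basicOpen x).2 W'.2 ⟨y, hW (Y.basicOpen_le x hy), hy⟩ ⟨z, hW (h' hz), hz⟩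
  have hu := (Y.mem_basicOpen x w (h' hw')).mp hw
  rw [← TopCat.Presheaf.germ_res_apply Y.presheaf (homOfLE h') w hw',
    show Y.presheaf.map (homOfLE h').op x = 0 from hx, map_zero] at hu
  exact not_isUnit_zero hu

variable (π R) in
/-- Sections vanishing on all free opens vanish. -/
def SchDense : Prop :=
  ∀ (U : Y.Opens) (s : Γ(X, π ⁻¹ᵁ U)),
    (∀ G (_ : FreeOn π R G) (h : G ≤ U), rs (π.preimage_mono h) s = 0) → s = 0

theorem eq_zero_of_rs_pullback [IsAffineHom π] [IsReduced Y] (hTF : SchDense π R) {V : Y.Opens}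
    (hV : IsPreirreducible (V : Set Y)) {W W' : Y.Opens} (hW : W ≤ V) (h' : W' ≤ W) (hne : ∃ z, z ∈ W')
    {x : Γ(X, π ⁻¹ᵁ W)} (hx : rs (π.preimage_mono h') x = 0) : x = 0 := by
  refine hTF W x fun G hG hGW => ?_
  by_cases hGe : ∃ z, z ∈ G
  swap
  · have : π ⁻¹ᵁ G = ⊥ := eq_bot_iff.mpr fun z hz => (hGe ⟨π z, hz⟩).elim
    haveI : Subsingleton Γ(X, π ⁻¹ᵁ G) := by
      rw [this]
      exact CommRingCat.subsingleton_of_isTerminal X.sheaf.isTerminalOfEmpty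
    exact Subsingleton.elim _ _
  obtain ⟨z, hz⟩ := hGe
  obtain ⟨w, hw'⟩ := hne
  obtain ⟨v, -, hvG, hvW'⟩ := hV _ _ G.2 W'.2 ⟨z, hW (hGW hz), hz⟩ ⟨w, hW (h' hw'), hw'⟩
  obtain ⟨g, hg, hvg⟩ := hG.1.exists_basicOpen_le (V := W') ⟨v, hvW'⟩ hvG
  obtain ⟨n, hn, hnd, hb⟩ := hG.2
  letI := (π.app G).hom.toAlgebra
  obtain ⟨b⟩ := (hb : Nonempty (Module.Basis (Fin n) Γ(Y, G) Γ(X, π ⁻¹ᵁ G)))
  have h0 : rs (π.preimage_mono (Y.basicOpen_le g)) (rs (π.preimage_mono hGW) x) = 0 := by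
    have := congrArg (rs (π.preimage_mono hg)) hx
    rw [rs_rs] at this ⊢
    rw [this]
    exact map_zero _
  letI := (X.presheaf.map (homOfLE (π.preimage_mono (Y.basicOpen_le g))).op).hom.toAlgebra
  haveI : IsLocalization.Away (π.app G g) Γ(X, π ⁻¹ᵁ Y.basicOpen g) :=
    (hG.1.preimage π).isLocalization_of_eq_basicOpen _ (homOfLE (π.preimage_mono (Y.basicOpen_le g)))
      (Scheme.preimage_basicOpen π g)
  obtain ⟨⟨_, k, rfl⟩, hk⟩ := (IsLocalization.map_eq_zero_iff (Submonoid.powers (π.app G g))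
    Γ(X, π ⁻¹ᵁ Y.basicOpen g) (rs (π.preimage_mono hGW) x)).mp h0
  have hk' : (g ^ k) • rs (π.preimage_mono hGW) x = 0 := by
    rw [Algebra.smul_def, map_pow]
    exact hk
  refine b.repr.injective (Finsupp.ext fun l => ?_)
  have h1 : g ^ k * b.repr (rs (π.preimage_mono hGW) x) l = 0 := by
    rw [← smul_eq_mul, ← Finsupp.smul_apply, ← map_smul, hk', map_zero]
    rfl
  rw [map_zero, Finsupp.zero_apply]
  refine eq_zero_of_rs hV (hGW.trans hW) (Y.basicOpen_le g) ⟨v, hvg⟩ ?_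
  have h2 := congrArg (rs (Y.basicOpen_le g)) h1
  rw [rs_mul, rs_pow, show rs (Y.basicOpen_le g) (0 : Γ(Y, G)) = 0 from map_zero _] at h2
  exact ((RingedSpace.isUnit_res_basicOpen Y.toRingedSpace g).pow k).mul_right_eq_zero.mp h2

theorem exists_local_normal [IsFinite π] [IsReduced Y] (hR : 1 ≤ R) (hd : DenseFree π R) (hTF : SchDense π R)
    {V : Y.Opens} (hV : IsAffineOpen V) [IsDomain Γ(Y, V)] {y : Y} (hyV : y ∈ V)
    [IsIntegrallyClosed (Y.presheaf.stalk y)] {U : Y.Opens} (hVU : V ≤ U) (s : Γ(X, π ⁻¹ᵁ U)) :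
    ∃ (D : Y.Opens) (h : D ≤ U), y ∈ D ∧ ∃ (t : Γ(Y, D)) (q : Γ(X, π ⁻¹ᵁ D)),
      IsN π R (rs (π.preimage_mono h) s) t ∧ π.app D t = rs (π.preimage_mono h) s * q := by
  have hirr := isPreirreducible_of_affine hV
  obtain ⟨G₀, z, hG₀, hzG, hGV⟩ := hd.exists_le hyV
  obtain ⟨c, g, hcg, hzc⟩ := exists_basicOpen_le_affine_inter hV hG₀.1 z ⟨hGV hzG, hzG⟩
  have hG : FreeOn π R (Y.basicOpen c) := hcg ▸ hG₀.basicOpen g
  have hc0 : c ≠ 0 := fun h => by
    rw [h, Scheme.basicOpen_zero] at hzc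
    exact hzc
  letI := (Y.presheaf.map (homOfLE (Y.basicOpen_le c)).op).hom.toAlgebra
  obtain ⟨hn, hnd, hb⟩ := hG.2.choose_spec
  let p := (hV.primeIdealOf ⟨y, hyV⟩).asIdeal
  letI := TopCat.Presheaf.algebra_section_stalk Y.presheaf (⟨y, hyV⟩ : V)
  haveI := hV.isLocalization_stalk ⟨y, hyV⟩
  haveI : IsIntegrallyClosed (Localization.AtPrime p) :=
    IsIntegrallyClosed.of_equiv (IsLocalization.algEquiv p.primeCompl (Y.presheaf.stalk y) (Localization.AtPrime p)).toRingEquiv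
  obtain ⟨d, hdp, a, q, ha, hq⟩ := exists_norm_mul (i := (π.app V).hom) (i' := (π.app (Y.basicOpen c)).hom)
    (Y.presheaf.map (homOfLE (Y.basicOpen_le c)).op).hom
    (X.presheaf.map (homOfLE (π.preimage_mono (Y.basicOpen_le c))).op).hom
    (RingHom.ext fun x => app_rs (Y.basicOpen_le c) x) (π.finite_app V hV) hc0
    (hV.isLocalization_of_eq_basicOpen c (homOfLE (Y.basicOpen_le c)) rfl) hn hb p (rs (π.preimage_mono hVU) s)
  have hyd : y ∈ Y.basicOpen d := by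
    have hmem : hV.primeIdealOf ⟨y, hyV⟩ ∈ hV.fromSpec ⁻¹ᵁ Y.basicOpen d := by
      rw [hV.fromSpec_preimage_basicOpen]
      exact hdp
    have h : hV.fromSpec (hV.primeIdealOf ⟨y, hyV⟩) ∈ Y.basicOpen d := hmem
    rwa [hV.fromSpec_primeIdealOf ⟨y, hyV⟩] at h
  have hdV : Y.basicOpen d ≤ V := Y.basicOpen_le d
  obtain ⟨e, he⟩ : ∃ e : Γ(Y, Y.basicOpen d), e * rs hdV d = 1 :=
    (RingedSpace.isUnit_res_basicOpen Y.toRingedSpace d).exists_left_inv
  obtain ⟨m, hm⟩ : ∃ m, R / hG.2.choose = m + 1 :=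
    ⟨R / hG.2.choose - 1, by have := Nat.div_pos (Nat.le_of_dvd hR hnd) hn; omega⟩
  let t₀ := rs hdV a * e
  let s' := rs (π.preimage_mono hVU) s
  have hq' : π.app V a = s' * q := sub_eq_zero.mp <| eq_zero_of_rs_pullback hTF hirr le_rfl (Y.basicOpen_le c)
    ⟨z, hzc⟩ (by
      change X.presheaf.map _ _ = 0
      rw [map_sub, sub_eq_zero]
      exact hq)
  refine ⟨Y.basicOpen d, hdV.trans hVU, hyd, t₀ ^ (m + 1),
    rs (π.preimage_mono hdV) q * π.app _ e * π.app _ (t₀ ^ m), fun G hG' hGd => ?_, ?_⟩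
  · by_cases hGe : ∃ w, w ∈ G
    swap
    · exact eq_of_germ fun w hw => (hGe ⟨w, hw⟩).elim
    obtain ⟨w, hw⟩ := hGe
    obtain ⟨v, -, hvG, hvc⟩ :=
      hirr _ _ G.2 (Y.basicOpen c).2 ⟨w, hdV (hGd hw), hw⟩ ⟨z, hGV hzG, hzc⟩
    refine sub_eq_zero.mp (eq_zero_of_rs hirr (hGd.trans hdV) (inf_le_left : G ⊓ Y.basicOpen c ≤ G) ⟨v, hvG, hvc⟩ ?_)
    change Y.presheaf.map _ _ = 0
    rw [map_sub, sub_eq_zero]
    have e1 := nrmF_compat hG' hG ((hGd.trans hdV).trans hVU) ((Y.basicOpen_le c).trans hVU) s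
      (V := G ⊓ Y.basicOpen c) inf_le_left inf_le_right
    change rs _ (rs hGd (t₀ ^ (m + 1))) = rs _ (nrmF π hG' (rs _ (rs _ s)))
    rw [rs_rs, rs_rs, e1, show rs (π.preimage_mono ((Y.basicOpen_le c).trans hVU)) s =
      rs (π.preimage_mono (Y.basicOpen_le c)) s' from (rs_rs _ _ _).symm]
    change rs _ (t₀ ^ (m + 1)) = rs _ (normR _ _ ^ (R / hG.2.choose))
    rw [hm, rs_pow, rs_pow]
    refine congrArg (· ^ (m + 1)) ?_
    have h1 := congrArg (rs (inf_le_right : G ⊓ Y.basicOpen c ≤ Y.basicOpen c)) ha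
    change rs _ (rs (Y.basicOpen_le c) a) = rs _ (rs (Y.basicOpen_le c) d * _) at h1
    rw [rs_mul, rs_rs, rs_rs] at h1
    have h2 := congrArg (rs (inf_le_left.trans hGd : G ⊓ Y.basicOpen c ≤ Y.basicOpen d)) he
    rw [rs_mul, rs_rs, rs_one] at h2
    change rs _ (rs hdV a * e) = _
    rw [rs_mul, rs_rs, h1, mul_comm _ (rs _ e), ← mul_assoc, h2, one_mul]
  · rw [show rs (π.preimage_mono (hdV.trans hVU)) s = rs (π.preimage_mono hdV) s' from (rs_rs _ _ _).symm,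
      pow_succ', map_mul]
    change π.app _ (rs hdV a * e) * _ = _
    rw [map_mul, app_rs, hq', rs_mul]
    ring

end NormDescLib
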