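import Mathlib.RingTheory.Localization.NormTrace
import Mathlib.RingTheory.Norm.Defs
import Mathlib.RingTheory.Localization.Away.Basic
import Mathlib.LinearAlgebra.Determinant

/-!
# Norms of free algebras: localisation and units
-/

set_option autoImplicit false
universe u

noncomputable section

namespace NormDescLib

variable {A B : Type u} [CommRing A] [CommRing B]

/-- The algebra given by `i` has a basis of `n` elements. -/
def HasBasis (i : A →+* B) (n : ℕ) : Prop :=
  letI := i.toAlgebra; Nonempty (Module.Basis (Fin n) A B)

/-- The norm along `i`. -/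
def normR (i : A →+* B) : B →* A :=
  letI := i.toAlgebra; Algebra.norm A

theorem normR_app {i : A →+* B} {n : ℕ} (h : HasBasis i n) (a : A) : normR i (i a) = a ^ n := by
  letI := i.toAlgebra
  obtain ⟨b⟩ := (h : Nonempty (Module.Basis (Fin n) A B))
  exact (Algebra.norm_algebraMap_of_basis b a).trans (by rw [Fintype.card_fin])

theorem isUnit_of_normR {i : A →+* B} {n : ℕ} (h : HasBasis i n) {s : B} (hs : IsUnit (normR i s)) :
    IsUnit s := by
  letI := i.toAlgebra
  obtain ⟨b⟩ := (h : Nonempty (Module.Basis (Fin n) A B))
  have : Module.Free A B := .of_basis b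
  have : Module.Finite A B := .of_basis b
  have hu : IsUnit (LinearMap.det (Algebra.lmul A B s)) := hs
  rw [← LinearMap.isUnit_iff_isUnit_det, Module.End.isUnit_iff] at hu
  obtain ⟨t, ht⟩ := hu.2 1
  exact IsUnit.of_mul_eq_one t ht

/-- Passing to localisations at an element of the base. -/
theorem normR_away {A' B' : Type u} [CommRing A'] [CommRing B'] {i : A →+* B} {i' : A' →+* B'}
    (ρA : A →+* A') (ρB : B →+* B') (comm : i'.comp ρA = ρB.comp i) (f : A)
    (hA : letI := ρA.toAlgebra; IsLocalization.Away f A')
    (hB : letI := ρB.toAlgebra; IsLocalization.Away (i f) B') {n : ℕ} (h : HasBasis i n) :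
    HasBasis i' n ∧ ∀ s, normR i' (ρB s) = ρA (normR i s) := by
  letI := i.toAlgebra
  letI := ρA.toAlgebra
  letI := ρB.toAlgebra
  letI := i'.toAlgebra
  letI : Algebra A B' := (ρB.comp i).toAlgebra
  haveI : IsScalarTower A B B' := IsScalarTower.of_algebraMap_eq fun _ => rfl
  haveI : IsScalarTower A A' B' := IsScalarTower.of_algebraMap_eq fun x => (RingHom.congr_fun comm x).symm
  haveI : IsLocalization (Submonoid.powers f) A' := hA
  haveI : IsLocalization (Algebra.algebraMapSubmonoid B (Submonoid.powers f)) B' := by
    rw [Algebra.algebraMapSubmonoid_powers]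
    exact hB
  obtain ⟨b⟩ := (h : Nonempty (Module.Basis (Fin n) A B))
  have : Module.Free A B := .of_basis b
  have : Module.Finite A B := .of_basis b
  exact ⟨⟨b.localizationLocalization A' (Submonoid.powers f) B'⟩,
    fun s => Algebra.norm_localization A (Submonoid.powers f) (Rₘ := A') (Sₘ := B') s⟩

end NormDescLib
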