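import Groth.Agent.NormDescLib.Glue
import Groth.Agent.NormDescLib.FreeRing
import Mathlib.AlgebraicGeometry.Morphisms.Affine

/-!
# The norm of a finite locally free morphism
-/

set_option autoImplicit false
universe u

open CategoryTheory CategoryTheory.Limits AlgebraicGeometry TopologicalSpace Opposite

noncomputable section

namespace NormDescLib

variable {X Y : Scheme.{u}} (π : X ⟶ Y)

/-- An affine open over which the algebra of functions is free, of rank a positive divisor of `d`. -/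
def FreeOn (d : ℕ) (D : Y.Opens) : Prop :=
  IsAffineOpen D ∧ ∃ n : ℕ, 0 < n ∧ n ∣ d ∧ HasBasis (π.app D).hom n

theorem FreeOn.basic [IsAffineHom π] {d : ℕ} {D : Y.Opens} (hD : IsAffineOpen D) (f : Γ(Y, D)) {n : ℕ}
    (h : HasBasis (π.app D).hom n) :
    HasBasis (π.app (Y.basicOpen f)).hom n ∧ ∀ s : Γ(X, π ⁻¹ᵁ D),
      normR (π.app (Y.basicOpen f)).hom (rs (π.preimage_mono (Y.basicOpen_le f)) s) =
        rs (Y.basicOpen_le f) (normR (π.app D).hom s) := by
  refine normR_away (Y.presheaf.map (homOfLE (Y.basicOpen_le f)).op).hom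
    (X.presheaf.map (homOfLE (π.preimage_mono (Y.basicOpen_le f))).op).hom
    (RingHom.ext fun a => app_rs (Y.basicOpen_le f) a) f
    (hD.isLocalization_of_eq_basicOpen f (homOfLE (Y.basicOpen_le f)) rfl) ?_ h
  exact (hD.preimage π).isLocalization_of_eq_basicOpen _ (homOfLE (π.preimage_mono (Y.basicOpen_le f)))
    (Scheme.preimage_basicOpen π f)

/-- The rank of the algebra is unique on a nonzero ring. -/
theorem hasBasis_unique {A B : Type u} [CommRing A] [CommRing B] [Nontrivial A] {i : A →+* B} {m n : ℕ}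
    (hm : HasBasis i m) (hn : HasBasis i n) : m = n := by
  letI := i.toAlgebra
  obtain ⟨b⟩ := (hm : Nonempty (Module.Basis (Fin m) A B))
  obtain ⟨c⟩ := (hn : Nonempty (Module.Basis (Fin n) A B))
  simpa using Fintype.card_congr (b.indexEquiv c)

/-- The norms of degree `d` on the opens over which the algebra is free. -/
def localNorm [IsAffineHom π] {d : ℕ} (hd : 1 ≤ d) (hcov : ∀ y : Y, ∃ D, FreeOn π d D ∧ y ∈ D) :
    LocalNorm π d where
  one_le := hd
  good := FreeOn π d
  affine _ hD := hD.1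
  cover := hcov
  good_basic D hD f := by
    obtain ⟨n, hn, hnd, h⟩ := hD.2
    exact ⟨hD.1.basicOpen f, n, hn, hnd, (FreeOn.basic π (d := d) hD.1 f h).1⟩
  nrm D hD := (powMonoidHom (d / hD.2.choose)).comp (normR (π.app D).hom)
  nrm_basic D hD f hf s := by
    obtain ⟨hn, hnd, h⟩ := hD.2.choose_spec
    obtain ⟨hm, hmd, h'⟩ := hf.2.choose_spec
    obtain ⟨h1, h2⟩ := FreeOn.basic π (d := d) hD.1 f h
    rcases subsingleton_or_nontrivial Γ(Y, Y.basicOpen f) with hs | hs
    · exact Subsingleton.elim _ _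
    change rs _ (normR (π.app D).hom s ^ _) = normR _ _ ^ _
    rw [rs_pow, h2 s, hasBasis_unique h' h1]
  nrm_app D hD g := by
    obtain ⟨hn, hnd, h⟩ := hD.2.choose_spec
    change normR (π.app D).hom _ ^ _ = _
    rw [normR_app h, ← pow_mul, Nat.mul_div_cancel' hnd]
  nrm_unit D hD s hs := by
    obtain ⟨hn, hnd, h⟩ := hD.2.choose_spec
    exact isUnit_of_normR h ((isUnit_pow_iff (Nat.div_pos (Nat.le_of_dvd hd hnd) hn).ne').mp hs)

theorem hasNorm_of_freeOn [IsAffineHom π] {d : ℕ} (hd : 1 ≤ d) (hcov : ∀ y : Y, ∃ D, FreeOn π d D ∧ y ∈ D) :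
    Nrm.HasNorm π d :=
  ⟨(localNorm π hd hcov).toNorm⟩

/-- On a quasi-compact base, free neighbourhoods of positive rank give a norm. -/
theorem exists_hasNorm [IsAffineHom π] [CompactSpace Y]
    (hcov : ∀ y : Y, ∃ (D : Y.Opens) (n : ℕ), IsAffineOpen D ∧ y ∈ D ∧ 0 < n ∧ HasBasis (π.app D).hom n) :
    ∃ d, Nrm.HasNorm π d := by
  choose D n hD hyD hn h using hcov
  obtain ⟨t, ht⟩ := isCompact_univ.elim_finite_subcover (fun y => (D y : Set Y)) (fun y => (D y).2)
    fun y _ => Set.mem_iUnion.mpr ⟨y, hyD y⟩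
  refine ⟨∏ y ∈ t, n y, hasNorm_of_freeOn π (Finset.prod_pos fun y _ => hn y) fun y => ?_⟩
  obtain ⟨z, hz, hyz⟩ := Set.mem_iUnion₂.mp (ht (Set.mem_univ y))
  exact ⟨D z, ⟨hD z, n z, hn z, Finset.dvd_prod_of_mem _ hz, h z⟩, hyz⟩

end NormDescLib
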