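import Groth.Agent.NormDescLib.DenseGen
import Groth.Agent.NormDescLib.Relative
import Mathlib.AlgebraicGeometry.IdealSheaf.Subscheme

/-!
# Removing the torsion of a finite cover
-/

set_option autoImplicit false
universe u

open CategoryTheory CategoryTheory.Limits AlgebraicGeometry TopologicalSpace Opposite

noncomputable section

namespace NormDescLib

variable {X' X : Scheme.{u}} (g : X' ⟶ X) (R : ℕ)

/-- The union of the free opens. -/
def freeLoc : X.Opens := ⨆ G : {G : X.Opens // FreeOn g R G}, G.1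

variable {g R}

theorem le_freeLoc {G : X.Opens} (hG : FreeOn g R G) : G ≤ freeLoc g R :=
  le_iSup (fun G : {G : X.Opens // FreeOn g R G} => G.1) ⟨G, hG⟩

/-- Sections over an affine free open vanishing on the free locus of a reduced base vanish. -/
theorem eq_zero_of_freeLoc [IsAffineHom g] [IsReduced X] (hd : DenseFree g R) {D : X.Opens} (hD : IsAffineOpen D)
    {n : ℕ} (h : HasBasis (g.app D).hom n) {s : Γ(X', g ⁻¹ᵁ D)}
    (hs : ∀ G (_ : FreeOn g R G) (hGD : G ≤ D), rs (g.preimage_mono hGD) s = 0) : s = 0 := by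
  letI := (g.app D).hom.toAlgebra
  obtain ⟨b⟩ := (h : Nonempty (Module.Basis (Fin n) Γ(X, D) Γ(X', g ⁻¹ᵁ D)))
  refine b.repr.injective (Finsupp.ext fun l => ?_)
  rw [map_zero, Finsupp.zero_apply]
  refine eq_zero_of_basicOpen_eq_bot _ (eq_bot_iff.mpr fun y hy => ?_)
  exfalso
  obtain ⟨G, z, hG, hzG, hle⟩ := hd.exists_le hy
  have hGD : G ≤ D := hle.trans (X.basicOpen_le _)
  obtain ⟨c, hc, hzc⟩ := hD.exists_basicOpen_le (V := G) ⟨z, hzG⟩ (hGD hzG)
  letI := (X'.presheaf.map (homOfLE (g.preimage_mono (X.basicOpen_le c))).op).hom.toAlgebra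
  haveI : IsLocalization.Away (g.app D c) Γ(X', g ⁻¹ᵁ X.basicOpen c) :=
    (hD.preimage g).isLocalization_of_eq_basicOpen _ (homOfLE (g.preimage_mono (X.basicOpen_le c)))
      (Scheme.preimage_basicOpen g c)
  have h0 : rs (g.preimage_mono (X.basicOpen_le c)) s = 0 := by
    rw [← rs_rs (g.preimage_mono hGD) (g.preimage_mono hc), hs G hG hGD]
    exact map_zero _
  obtain ⟨⟨_, k, rfl⟩, hk⟩ := (IsLocalization.map_eq_zero_iff (Submonoid.powers (g.app D c))
    Γ(X', g ⁻¹ᵁ X.basicOpen c) s).mp h0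
  have hk' : (c ^ k) • s = 0 := by
    rw [Algebra.smul_def, map_pow]
    exact hk
  have h1 : c ^ k * b.repr s l = 0 := by
    rw [← smul_eq_mul, ← Finsupp.smul_apply, ← map_smul, hk', map_zero]
    rfl
  have h2 := congrArg (X.presheaf.germ D z (hGD hzG)) h1
  rw [map_mul, map_pow, map_zero] at h2
  exact not_isUnit_zero (h2 ▸ (((X.mem_basicOpen c z (hGD hzG)).mp hzc).pow k).mul
    ((X.mem_basicOpen _ z (hGD hzG)).mp (hle hzG)))

section Image

variable [IsFinite g] [IsNoetherian X]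

theorem quasiCompact_freePart : QuasiCompact (g ⁻¹ᵁ freeLoc g R).ι := by
  haveI := LocallyOfFiniteType.isLocallyNoetherian g
  haveI : CompactSpace X' := QuasiCompact.compactSpace_of_compactSpace g
  haveI : IsNoetherian X' := {}
  infer_instance

variable (g R)

/-- The torsion free part of a finite cover. -/
def freeImage : Scheme.{u} := (g ⁻¹ᵁ freeLoc g R).ι.image

/-- Its inclusion. -/
def freeImageι : freeImage g R ⟶ X' := (g ⁻¹ᵁ freeLoc g R).ι.imageι

instance : IsClosedImmersion (freeImageι g R) := by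
  unfold freeImageι freeImage
  infer_instance

variable {g R}

theorem rs_toImage_injective {D : X.Opens} (hD : IsAffineOpen D) :
    Function.Injective ((g ⁻¹ᵁ freeLoc g R).ι.toImage.app (freeImageι g R ⁻¹ᵁ (g ⁻¹ᵁ D))) :=
  haveI := quasiCompact_freePart (g := g) (R := R)
  (g ⁻¹ᵁ freeLoc g R).ι.toImage_app_injective (U := ⟨g ⁻¹ᵁ D, hD.preimage g⟩)

/-- Over a free open, nothing is removed. -/
theorem hasBasis_freeImage [IsReduced X] (hd : DenseFree g R) {D : X.Opens} (hD : IsAffineOpen D) {n : ℕ}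
    (h : HasBasis (g.app D).hom n) : HasBasis ((freeImageι g R ≫ g).app D).hom n := by
  let j := (g ⁻¹ᵁ freeLoc g R).ι
  have hbij : Function.Bijective ((freeImageι g R).app (g ⁻¹ᵁ D)) := by
    refine ⟨fun a b hab => sub_eq_zero.mp (eq_zero_of_freeLoc hd hD h fun G hG hGD => ?_),
      Scheme.IdealSheafData.subschemeι_app_surjective j.ker ⟨g ⁻¹ᵁ D, hD.preimage g⟩⟩
    have h1 : j.app (g ⁻¹ᵁ D) (a - b) = 0 := by
      rw [Scheme.Hom.congr_app j.toImage_imageι.symm (g ⁻¹ᵁ D)]
      have e : j.imageι.app (g ⁻¹ᵁ D) (a - b) = 0 := (map_sub _ a b).trans (sub_eq_zero.mpr hab)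
      have e0 : (j.toImage ≫ j.imageι).app (g ⁻¹ᵁ D) (a - b) = 0 :=
        (congrArg (j.toImage.app (j.imageι ⁻¹ᵁ (g ⁻¹ᵁ D))) e).trans (map_zero (j.toImage.app _).hom)
      exact (CommRingCat.comp_apply _ _ _).trans ((congrArg _ e0).trans (map_zero _))
    haveI : IsIso (j.app (g ⁻¹ᵁ G)) := j.isIso_app _ (by
      rw [Scheme.Opens.opensRange_ι]
      exact g.preimage_mono (le_freeLoc hG))
    apply (ConcreteCategory.bijective_of_isIso (j.app (g ⁻¹ᵁ G))).1
    rw [app_rs, h1]
    simp [rs]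
  refine hasBasis_congr (RingHom.id _) ((freeImageι g R).app (g ⁻¹ᵁ D)).hom Function.bijective_id hbij ?_ h
  exact RingHom.comp_id _

theorem schDense_freeImage [IsReduced X] (hd : DenseFree g R) : SchDense (freeImageι g R ≫ g) R := by
  intro U s hs
  let j := (g ⁻¹ᵁ freeLoc g R).ι
  have h0 : j.toImage.app ((freeImageι g R ≫ g) ⁻¹ᵁ U) s = 0 := by
    refine TopCat.Presheaf.section_ext (g ⁻¹ᵁ freeLoc g R).toScheme.sheaf _ _ _ fun p hp => ?_
    obtain ⟨⟨G, hG⟩, hpG⟩ := Opens.mem_iSup.mp (show g (j p) ∈ freeLoc g R from p.2)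
    have hpU : g (j p) ∈ U := by
      have h1 : (freeImageι g R ≫ g) (j.toImage p) ∈ U := hp
      have h2 : j.imageι (j.toImage p) = j p := by rw [← Scheme.Hom.comp_apply, j.toImage_imageι]
      change g (j.imageι (j.toImage p)) ∈ U at h1
      rwa [h2] at h1
    obtain ⟨c, hc, hpc⟩ := hG.1.exists_basicOpen_le (V := U) ⟨g (j p), hpU⟩ hpG
    have hGc := FreeOn.basicOpen hG c
    obtain ⟨n, hn, hnd, hb⟩ := hGc.2
    have h1 := hs _ ⟨hGc.1, n, hn, hnd, hasBasis_freeImage hd hGc.1 hb⟩ hc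
    have hp' : p ∈ j.toImage ⁻¹ᵁ ((freeImageι g R ≫ g) ⁻¹ᵁ X.basicOpen c) := by
      change g (j.imageι (j.toImage p)) ∈ X.basicOpen c
      rw [← Scheme.Hom.comp_apply j.toImage j.imageι, j.toImage_imageι]
      exact hpc
    have h2 := app_rs (π := j.toImage) ((freeImageι g R ≫ g).preimage_mono hc) s
    have h4 : j.toImage.app _ (rs ((freeImageι g R ≫ g).preimage_mono hc) s) = 0 :=
      (congrArg (j.toImage.app _) h1).trans (map_zero _)
    have h3 := congrArg ((g ⁻¹ᵁ freeLoc g R).toScheme.presheaf.germ _ p hp') (h2.symm.trans h4)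
    change (g ⁻¹ᵁ freeLoc g R).toScheme.presheaf.germ _ p hp _ = (g ⁻¹ᵁ freeLoc g R).toScheme.presheaf.germ _ p hp 0
    exact (((TopCat.Presheaf.germ_res_apply (g ⁻¹ᵁ freeLoc g R).toScheme.presheaf _ p hp' _).symm.trans h3).trans
      (map_zero ((g ⁻¹ᵁ freeLoc g R).toScheme.presheaf.germ _ p hp').hom)).trans
      (map_zero ((g ⁻¹ᵁ freeLoc g R).toScheme.presheaf.germ _ p hp).hom).symm
  have hloc : ∀ V : X.Opens, IsAffineOpen V → (h : V ≤ U) →
      rs ((freeImageι g R ≫ g).preimage_mono h) s = 0 := fun V hV h => by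
    apply rs_toImage_injective hV
    refine Eq.trans ?_ (map_zero (j.toImage.app _).hom).symm
    exact (app_rs (π := j.toImage) ((freeImageι g R ≫ g).preimage_mono h) s).trans
      ((congrArg (rs _) h0).trans (map_zero _))
  refine TopCat.Presheaf.section_ext (freeImage g R).sheaf _ _ _ fun p hp => ?_
  obtain ⟨V, hV, hpV, hVU⟩ := exists_isAffineOpen_mem_and_subset (x := (freeImageι g R ≫ g) p) (U := U) hp
  have h3 := congrArg ((freeImage g R).presheaf.germ _ p hpV) (hloc V hV hVU)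
  simp only [rs, TopCat.Presheaf.germ_res_apply] at h3
  change (freeImage g R).presheaf.germ _ p hp s = (freeImage g R).presheaf.germ _ p hp 0
  exact (h3.trans (map_zero ((freeImage g R).presheaf.germ _ p hpV).hom)).trans
    (map_zero ((freeImage g R).presheaf.germ _ p hp).hom).symm

theorem surjective_freeImage [Surjective g] (hd : DenseFree g R) : Surjective (freeImageι g R ≫ g) := by
  refine ⟨fun y => ?_⟩
  let j := (g ⁻¹ᵁ freeLoc g R).ι
  have hcl : IsClosed (Set.range (freeImageι g R ≫ g)) := (freeImageι g R ≫ g).isClosedMap.isClosed_range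
  by_contra hy
  obtain ⟨G, z, hG, hzG, hz⟩ := hd ⟨_, hcl.isOpen_compl⟩ y hy
  obtain ⟨x, rfl⟩ := g.surjective z
  refine hz ⟨j.toImage ⟨x, le_freeLoc hG hzG⟩, ?_⟩
  show g (j.imageι (j.toImage ⟨x, le_freeLoc hG hzG⟩)) = g x
  rw [← Scheme.Hom.comp_apply j.toImage, j.toImage_imageι]
  rfl

theorem denseFree_freeImage [IsReduced X] (hd : DenseFree g R) : DenseFree (freeImageι g R ≫ g) R :=
  fun U y hy => by
    obtain ⟨G, z, hG, hzG, hzU⟩ := hd U y hy
    obtain ⟨n, hn, hnd, hb⟩ := hG.2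
    exact ⟨G, z, ⟨hG.1, n, hn, hnd, hasBasis_freeImage hd hG.1 hb⟩, hzG, hzU⟩

/-- A finite cover of a reduced noetherian scheme, normal or free at each point, has a torsion free
closed part with a norm. -/
theorem exists_part_hasNorm [IsReduced X] [Surjective g]
    (hR : 1 ≤ R) (hd : DenseFree g R)
    (h : ∀ x, (IsDomain (X.presheaf.stalk x) ∧ IsIntegrallyClosed (X.presheaf.stalk x)) ∨
      ∃ (D : X.Opens) (n : ℕ), IsAffineOpen D ∧ x ∈ D ∧ HasBasis (g.app D).hom n) :
    Nrm.HasNorm (freeImageι g R ≫ g) R := by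
  haveI := surjective_freeImage hd
  refine hasNorm_of_normal_or_free hR (denseFree_freeImage hd) (schDense_freeImage hd) fun x => (h x).imp id ?_
  rintro ⟨D, n, hD, hxD, hb⟩
  exact ⟨D, n, hD, hxD, hasBasis_freeImage hd hD hb⟩

end Image

end NormDescLib
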