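import Groth.Agent.NormDescLib.FreeRing
import Mathlib.RingTheory.Polynomial.IsIntegral
import Mathlib.LinearAlgebra.Matrix.Charpoly.Eigs
import Mathlib.FieldTheory.IsAlgClosed.Spectrum
import Mathlib.FieldTheory.IsAlgClosed.AlgebraicClosure
import Mathlib.RingTheory.Norm.Basic

/-!
# Coefficients of characteristic polynomials of integral matrices are integral
-/

set_option autoImplicit false
universe u

noncomputable section

open Polynomial

namespace NormDescLib

/-- A matrix annihilated by a monic polynomial over `A` has a characteristic polynomial with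
coefficients integral over `A`. -/
theorem isIntegral_charpoly_coeff {A A' : Type u} [CommRing A] [CommRing A'] [IsDomain A'] [Algebra A A']
    {r : ℕ} (M : Matrix (Fin r) (Fin r) A') (g : A[X]) (hg : g.Monic) (hM : aeval M g = 0) (k : ℕ) :
    IsIntegral A (M.charpoly.coeff k) := by
  rcases Nat.eq_zero_or_pos r with rfl | hr
  · rw [Matrix.charpoly_isEmpty, coeff_one]
    split_ifs
    · exact isIntegral_one
    · exact isIntegral_zero
  haveI : Nonempty (Fin r) := ⟨⟨0, hr⟩⟩
  let L := AlgebraicClosure (FractionRing A')
  have hinj : Function.Injective (algebraMap A' L) := by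
    rw [IsScalarTower.algebraMap_eq A' (FractionRing A') L]
    exact (algebraMap (FractionRing A') L).injective.comp (IsFractionRing.injective A' (FractionRing A'))
  refine (isIntegral_algHom_iff (IsScalarTower.toAlgHom A A' L) hinj).mp ?_
  rw [IsScalarTower.coe_toAlgHom', ← coeff_map, ← Matrix.charpoly_map]
  refine isIntegral_coeff_of_factors _ (by simp [(Matrix.charpoly_monic _).leadingCoeff, isIntegral_one])
    (IsAlgClosed.splits _) (fun x hx => ⟨g, hg, ?_⟩) k
  let φ : Matrix (Fin r) (Fin r) A' →ₐ[A] Matrix (Fin r) (Fin r) L := (IsScalarTower.toAlgHom A A' L).mapMatrix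
  have h1 : aeval (φ M) g = 0 := by rw [aeval_algHom_apply, hM, map_zero]
  have hx' : x ∈ spectrum L (φ M) := Matrix.mem_spectrum_iff_isRoot_charpoly.mpr hx
  have h2 := spectrum.subset_polynomial_aeval (φ M) (g.map (algebraMap A L)) ⟨x, hx', rfl⟩
  rw [aeval_map_algebraMap, h1, spectrum.zero_eq, Set.mem_singleton_iff] at h2
  simpa [eval₂_eq_eval_map] using h2

end NormDescLib
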